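import Groth.Agent.H24FSpf.Hom
import Mathlib.RingTheory.AdicCompletion.Exactness

/-!
# Exactness of completion of modules on the formal spectrum
-/

set_option autoImplicit false
set_option linter.style.haveILetI false
set_option linter.unusedSectionVars false
universe u

open CategoryTheory CategoryTheory.Limits AlgebraicGeometry TopologicalSpace Opposite

attribute [-instance] CategoryTheory.catToReflQuiver

namespace Groth.Agent.H24FSpf

open H15Site.ModTensor H15Site.ModRel H15Site.LocGen H15Site.LocPres H24FMod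

variable {A : Type u} [CommRing A] (J : Ideal A) (h : (spf J).IsFormal)

/-- The induced morphism of completed modules. -/
noncomputable abbrev dMap {M N : ModuleCat.{u} A} (u : M ⟶ N) :
    (mSys J M).realMod h ⟶ (mSys J N).realMod h :=
  FSch.ModSys.realModMap h (FSch.complModMap (FSch.idealSpec A J) ((tilde.functor (CommRingCat.of A)).map u))

theorem toSec_map {M N : ModuleCat.{u} A} (u : M ⟶ N) (V : (Spec (CommRingCat.of A)).Opens) (m : M) :
    ((tilde.functor (CommRingCat.of A)).map u).app V (toSec M V m) = toSec N V (u m) :=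
  congr($(tilde.toOpen_map_app (R := CommRingCat.of A) u V) m)

theorem toSec_sub (M : ModuleCat.{u} A) (V : (Spec (CommRingCat.of A)).Opens) (m m' : M) :
    toSec M V (m - m') = toSec M V m - toSec M V m' :=
  map_sub (tilde.toOpen (R := CommRingCat.of A) M V).hom m m'

theorem toSec_zero (M : ModuleCat.{u} A) (V : (Spec (CommRingCat.of A)).Opens) : toSec M V 0 = 0 :=
  map_zero (tilde.toOpen (R := CommRingCat.of A) M V).hom

theorem el_zero (M : ModuleCat.{u} A) (V : (Spec (CommRingCat.of A)).Opens) : el J M h V 0 = 0 := by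
  have e := el_add J M h V 0 0
  rw [add_zero] at e
  simpa using e

theorem exists_pow_smul_eq_zero' {R : CommRingCat.{u}} (M : ModuleCat.{u} R) (f : R) (m : M)
    (hm : (tilde.toOpen M (PrimeSpectrum.basicOpen f)).hom m = 0) : ∃ j : ℕ, f ^ j • m = 0 := by
  obtain ⟨⟨s, j, hj⟩, hs⟩ := (IsLocalizedModule.eq_zero_iff (Submonoid.powers f)
    (tilde.toOpen M (PrimeSpectrum.basicOpen f)).hom).1 hm
  subst hj
  exact ⟨j, hs⟩

theorem exists_pow_smul_eq_zero (M : ModuleCat.{u} A) (f : A) (m : M)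
    (hm : toSec M (PrimeSpectrum.basicOpen f) m = 0) : ∃ j : ℕ, f ^ j • m = 0 :=
  exists_pow_smul_eq_zero' (R := CommRingCat.of A) M f m hm

/-- The basic open of an element. -/
noncomputable abbrev D (f : A) : (Spec (CommRingCat.of A)).Opens := PrimeSpectrum.basicOpen f

theorem toSec_pow_smul (M : ModuleCat.{u} A) (f : A) (k : ℕ) (m : M) :
    toSec M (D f) (f ^ k • m) = sA (D f) (f ^ k) • toSec M (D f) m :=
  toSec_smul M (D f) _ m

theorem exists_mem_of_mem_smul (M : ModuleCat.{u} A) (f : A) (p : ℕ) {x : Γ(tilde (R := CommRingCat.of A) M, D f)}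
    (hx : x ∈ (J.map (sA (D f))) ^ p • (⊤ : Submodule Γ(Spec (CommRingCat.of A), D f) _)) :
    ∃ (k : ℕ) (m₀ : M), m₀ ∈ J ^ p • (⊤ : Submodule A M) ∧ sA (D f) (f ^ k) • x = toSec M (D f) m₀ := by
  let Q : Γ(tilde (R := CommRingCat.of A) M, D f) → Prop := fun z =>
    ∃ (k : ℕ) (m₀ : M), m₀ ∈ J ^ p • (⊤ : Submodule A M) ∧ sA (D f) (f ^ k) • z = toSec M (D f) m₀
  have hadd : ∀ a b, Q a → Q b → Q (a + b) := by
    rintro a b ⟨k, m, hm, e⟩ ⟨k', m', hm', e'⟩
    refine ⟨k + k', f ^ k' • m + f ^ k • m', add_mem (Submodule.smul_mem _ _ hm) (Submodule.smul_mem _ _ hm'), ?_⟩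
    rw [toSec_add, toSec_pow_smul, toSec_pow_smul, ← e, ← e', smul_smul, smul_smul, ← map_mul, ← map_mul,
      ← pow_add, ← pow_add, add_comm k' k, ← smul_add]
  show Q x
  refine Submodule.smul_induction_on hx (fun r hr y _ => ?_) hadd
  rw [← Ideal.map_pow] at hr
  refine Submodule.span_induction (p := fun r _ => ∀ y, Q (r • y)) ?_ ?_ ?_ ?_ hr y
  · rintro _ ⟨a, ha, rfl⟩ y
    obtain ⟨m₀, k, hk⟩ := exists_pow_smul_eq_toSec M f y
    refine ⟨k, a • m₀, Submodule.smul_mem_smul ha trivial, ?_⟩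
    rw [toSec_smul, smul_comm, ← hk]
  · exact fun y => ⟨0, 0, zero_mem _, by rw [zero_smul, smul_zero, toSec_zero]⟩
  · intro a b _ _ ha hb y
    rw [add_smul]
    exact hadd _ _ (ha y) (hb y)
  · intro s a _ ha y
    rw [smul_eq_mul, mul_comm, mul_smul]
    exact ha (s • y)

theorem toSec_mem_smul (M : ModuleCat.{u} A) (V : (Spec (CommRingCat.of A)).Opens) {p : ℕ} {m : M}
    (hm : m ∈ J ^ p • (⊤ : Submodule A M)) :
    toSec M V m ∈ (J.map (sA V)) ^ p • (⊤ : Submodule Γ(Spec (CommRingCat.of A), V) _) := by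
  refine Submodule.smul_induction_on (p := fun m => toSec M V m ∈ (J.map (sA V)) ^ p •
    (⊤ : Submodule Γ(Spec (CommRingCat.of A), V) _)) hm (fun a ha y _ => ?_) fun a b ha hb => ?_
  · rw [toSec_smul, ← Ideal.map_pow]
    exact Submodule.smul_mem_smul (Ideal.mem_map_of_mem _ ha) trivial
  · rw [toSec_add]
    exact add_mem ha hb

variable {S : ShortComplex (ModuleCat.{u} A)}

/-- The map on sections. -/
noncomputable def secLin {M N : ModuleCat.{u} A} (u : M ⟶ N) (V : (Spec (CommRingCat.of A)).Opens) :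
    Γ(tilde (R := CommRingCat.of A) M, V) →ₗ[Γ(Spec (CommRingCat.of A), V)]
      Γ(tilde (R := CommRingCat.of A) N, V) where
  toFun := ((tilde.functor (CommRingCat.of A)).map u).app V
  map_add' := map_add _
  map_smul' r m := ((tilde.functor (CommRingCat.of A)).map u).app_smul r m

theorem secLin_toSec {M N : ModuleCat.{u} A} (u : M ⟶ N) (V : (Spec (CommRingCat.of A)).Opens) (m : M) :
    secLin u V (toSec M V m) = toSec N V (u m) := toSec_map u V m

variable (hS : S.ShortExact) (f : A)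

theorem isUnit_pow (k : ℕ) : IsUnit (sA (D f) (f ^ k)) := by
  rw [map_pow]
  exact (isUnit_sA f).pow k

include hS in
theorem secLin_surjective : Function.Surjective (secLin S.g (D f)) := by
  intro y
  obtain ⟨m₀, k, hk⟩ := exists_pow_smul_eq_toSec S.X₃ f y
  obtain ⟨m, rfl⟩ := (ModuleCat.epi_iff_surjective _).1 hS.epi_g m₀
  obtain ⟨v, hv⟩ := isUnit_pow f k
  refine ⟨(↑v⁻¹ : Γ(Spec (CommRingCat.of A), D f)) • toSec S.X₂ (D f) m, ?_⟩
  rw [map_smul, secLin_toSec, ← hk, ← hv, smul_smul, Units.inv_mul, one_smul]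

include hS in
theorem secLin_injective : Function.Injective (secLin S.f (D f)) := by
  rw [injective_iff_map_eq_zero]
  intro x hx
  obtain ⟨m₀, k, hk⟩ := exists_pow_smul_eq_toSec S.X₁ f x
  have h0 : toSec S.X₂ (D f) (S.f m₀) = 0 := by rw [← secLin_toSec, ← hk, map_smul, hx, smul_zero]
  obtain ⟨j, hj⟩ := exists_pow_smul_eq_zero S.X₂ f _ h0
  rw [← map_smul] at hj
  have h1 := (ModuleCat.mono_iff_injective _).1 hS.mono_f (hj.trans (map_zero _).symm)
  have h2 : sA (D f) (f ^ j) • toSec S.X₁ (D f) m₀ = 0 := by rw [← toSec_pow_smul, h1, toSec_zero]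
  rw [← hk, smul_smul, ← map_mul, ← pow_add] at h2
  exact (isUnit_pow f _).smul_eq_zero.1 h2

include hS in
theorem secLin_exact : Function.Exact (secLin S.f (D f)) (secLin S.g (D f)) := by
  intro x
  refine ⟨fun hx => ?_, ?_⟩
  · obtain ⟨m₀, k, hk⟩ := exists_pow_smul_eq_toSec S.X₂ f x
    have h0 : toSec S.X₃ (D f) (S.g m₀) = 0 := by rw [← secLin_toSec, ← hk, map_smul, hx, smul_zero]
    obtain ⟨j, hj⟩ := exists_pow_smul_eq_zero S.X₃ f _ h0
    rw [← map_smul] at hj
    obtain ⟨m₁, hm₁⟩ := ((ShortComplex.ShortExact.moduleCat_exact_iff_function_exact S).1 hS.exact _).1 hj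
    obtain ⟨v, hv⟩ := isUnit_pow f (j + k)
    refine ⟨(↑v⁻¹ : Γ(Spec (CommRingCat.of A), D f)) • toSec S.X₁ (D f) m₁, ?_⟩
    rw [map_smul, secLin_toSec, hm₁, toSec_pow_smul, ← hk, smul_smul (sA (D f) (f ^ j)), ← map_mul,
      ← pow_add, ← hv, smul_smul, Units.inv_mul, one_smul]
  · rintro ⟨y, rfl⟩
    obtain ⟨m₀, k, hk⟩ := exists_pow_smul_eq_toSec S.X₁ f y
    refine (isUnit_pow f k).smul_eq_zero.1 ?_
    rw [← map_smul, ← map_smul, hk, secLin_toSec, secLin_toSec]
    exact (congrArg _ congr($(S.zero) m₀)).trans (toSec_zero _ _)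

variable {n₀ : ℕ}
  (hAR : ∀ p : ℕ, ∀ x : S.X₁, S.f x ∈ J ^ (p + n₀) • (⊤ : Submodule A S.X₂) → x ∈ J ^ p • (⊤ : Submodule A S.X₁))

include hS hAR in
theorem secLin_artinRees (p : ℕ) (x : Γ(tilde (R := CommRingCat.of A) S.X₁, D f))
    (hx : secLin S.f (D f) x ∈ (J.map (sA (D f))) ^ (p + n₀) • (⊤ : Submodule Γ(Spec (CommRingCat.of A), D f) _)) :
    x ∈ (J.map (sA (D f))) ^ p • (⊤ : Submodule Γ(Spec (CommRingCat.of A), D f) _) := by
  obtain ⟨k, m₂, hm₂, hk⟩ := exists_mem_of_mem_smul J S.X₂ f _ hx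
  obtain ⟨m₁, k', hk'⟩ := exists_pow_smul_eq_toSec S.X₁ f x
  have h0 : toSec S.X₂ (D f) (f ^ k • S.f m₁ - f ^ k' • m₂) = 0 := by
    rw [toSec_sub, toSec_pow_smul, toSec_pow_smul, ← secLin_toSec, ← hk', ← hk, map_smul, smul_comm, sub_self]
  obtain ⟨j, hj⟩ := exists_pow_smul_eq_zero S.X₂ f _ h0
  rw [smul_sub, sub_eq_zero, smul_smul, ← map_smul] at hj
  have h1 := hAR p ((f ^ j * f ^ k) • m₁) (hj ▸ Submodule.smul_mem _ _ (Submodule.smul_mem _ _ hm₂))
  have h2 := toSec_mem_smul J S.X₁ (D f) h1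
  rw [toSec_smul, ← hk', smul_smul, ← map_mul, ← pow_add, ← pow_add] at h2
  exact ((Submodule.smul_mem_iff_of_isUnit _ (isUnit_pow f _)).1 h2)

include hS in
/-- The ideal on a basic open. -/
noncomputable abbrev Kf : Ideal Γ(Spec (CommRingCat.of A), D f) := J.map (sA (D f))

theorem dQuot (M : ModuleCat.{u} A) (f : A) (n : ℕ) :
    Function.Surjective (κ h (lv J) (lv_comm J) (FSch.complTransIso (FSch.idealSpec A J))
      (tilde (R := CommRingCat.of A) M) (D f) n) ∧
    ∀ m, κ h (lv J) (lv_comm J) (FSch.complTransIso (FSch.idealSpec A J)) (tilde (R := CommRingCat.of A) M) (D f) n m = 0 ↔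
      m ∈ (Kf J f) ^ (n + 1) • (⊤ : Submodule Γ(Spec (CommRingCat.of A), D f) _) :=
  κ_isQuot h (lv J) (lv_comm J) _ (Kf J f) (fun n => ker_lv J n (isAffineOpen_basic f)) (isAffineOpen_basic f)
    (inferInstance : (tilde (R := CommRingCat.of A) M).IsQuasicoherent) n

theorem exists_drep (M : ModuleCat.{u} A) (f : A) (y : Sec h ((mSys J M).realMod h) (trOpen (lv J) (D f))) :
    ∃ b, Rep (F := tilde (R := CommRingCat.of A) M) h (lv J) (lv_comm J)
      (FSch.complTransIso (FSch.idealSpec A J)) (Kf J f) b y :=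
  exists_rep h (lv J) (lv_comm J) _ (fun _ => rfl) (Kf J f) (fun n => ker_lv J n (isAffineOpen_basic f))
    (isAffineOpen_basic f) (inferInstance : (tilde (R := CommRingCat.of A) M).IsQuasicoherent) y

theorem exists_dsect (M : ModuleCat.{u} A) (f : A)
    (b : AdicCompletion.AdicCauchySequence (Kf J f) Γ(tilde (R := CommRingCat.of A) M, D f)) :
    ∃ y, Rep (F := tilde (R := CommRingCat.of A) M) h (lv J) (lv_comm J)
      (FSch.complTransIso (FSch.idealSpec A J)) (Kf J f) b y :=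
  exists_section h (lv J) (lv_comm J) _ (fun _ => rfl) (Kf J f) (fun n => ker_lv J n (isAffineOpen_basic f))
    (isAffineOpen_basic f) (inferInstance : (tilde (R := CommRingCat.of A) M).IsQuasicoherent) b

theorem dNat {M N : ModuleCat.{u} A} (u : M ⟶ N) (f : A) (n : ℕ) (m : Γ(tilde (R := CommRingCat.of A) M, D f)) :
    ((Scheme.Modules.pullback (lv J n)).map ((tilde.functor (CommRingCat.of A)).map u)).app _
        (κ h (lv J) (lv_comm J) (FSch.complTransIso (FSch.idealSpec A J)) _ (D f) n m) =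
      κ h (lv J) (lv_comm J) (FSch.complTransIso (FSch.idealSpec A J)) _ (D f) n (secLin u (D f) m) :=
  κ_natural h (lv J) (lv_comm J) _ _ _ _ n _ m

theorem prS_dMap {M N : ModuleCat.{u} A} (u : M ⟶ N) {U : ((spf J).X 0).Opens} (n : ℕ)
    (x : Sec h ((mSys J M).realMod h) U) :
    prS h (mSys J N).F (mSys J N).toPush n U (secMap (dMap J h u) U x) =
      ((Scheme.Modules.pullback (lv J n)).map ((tilde.functor (CommRingCat.of A)).map u)).app _
        (prS h (mSys J M).F (mSys J M).toPush n U x) :=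
  prS_realModMap h (lv J) (FSch.complTransIso (FSch.idealSpec A J)) _ n x

include hS hAR in
theorem mono_dMap : Mono (dMap J h S.f) := by
  refine (Preadditive.mono_iff_cancel_zero _).2 fun P φ hφ => hom_ext_sec fun U y => ?_
  let z : Sec h ((mSys J S.X₁).realMod h) U := secMap φ U y
  have hz : secMap (dMap J h S.f) U z = 0 :=
    congrArg (fun (q : P ⟶ (mSys J S.X₂).realMod h) => (q.val.app (op U)).hom y) hφ
  show z = 0
  obtain ⟨R, hR, hR'⟩ := exists_basic J U
  refine separated_forg _ (X := op U) R hR _ _ fun W q hq => ?_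
  obtain ⟨f, hW, hVU⟩ := hR' q hq
  let zV : Sec h ((mSys J S.X₁).realMod h) (trOpen (lv J) (D f)) := rs _ (homOfLE hVU).op z
  have hzV : secMap (dMap J h S.f) (trOpen (lv J) (D f)) zV = 0 :=
    (rs_app (dMap J h S.f).val (homOfLE hVU).op z).trans ((congrArg _ hz).trans (rs_zero _ _))
  obtain ⟨cs, hcs⟩ := exists_drep J h S.X₁ f zV
  have hmem : ∀ n, secLin S.f (D f) (cs (n + 1)) ∈ (Kf J f) ^ (n + 1) • (⊤ : Submodule _ _) := fun n => by
    refine ((dQuot J h S.X₂ f n).2 _).1 ((dNat J h S.f f n _).symm.trans ((congrArg _ (hcs n)).trans ?_))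
    exact (prS_dMap J h _ n zV).symm.trans ((congrArg _ hzV).trans (map_zero _))
  have hzero : zV = 0 := prS_ext h _ _ _ _ fun n => by
    refine ((hcs n).symm.trans (((dQuot J h S.X₁ f n).2 _).2 ?_)).trans (map_zero _).symm
    have h1 := secLin_artinRees J hS f hAR (n + 1) _ (show secLin S.f (D f) (cs (n + n₀ + 1)) ∈
      (Kf J f) ^ (n + 1 + n₀) • (⊤ : Submodule _ _) by rw [show n + 1 + n₀ = n + n₀ + 1 by omega]; exact hmem (n + n₀))
    exact (Submodule.sub_mem_iff_left _ h1).1 (SModEq.sub_mem.1 (cs.property (show n + 1 ≤ n + n₀ + 1 by omega)))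
  rw [rs_zero, show q.op = (homOfLE hVU).op ≫ (homOfLE hW).op from Subsingleton.elim _ _, ← rs_rs]
  exact (congrArg _ hzero).trans (rs_zero _ _)

include hS in
theorem epi_dMap : Epi (dMap J h S.g) := by
  rw [epi_iff_locSurj]
  intro U t
  obtain ⟨R, hR, hR'⟩ := exists_basic J U
  refine ⟨R, hR, fun W q hq => ?_⟩
  obtain ⟨f, hW, hVU⟩ := hR' q hq
  let tV : Sec h ((mSys J S.X₃).realMod h) (trOpen (lv J) (D f)) := rs _ (homOfLE hVU).op t
  obtain ⟨d, hd⟩ := exists_drep J h S.X₃ f tV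
  obtain ⟨e, he⟩ := AdicCompletion.map_surjective (Kf J f) (secLin_surjective hS f) (AdicCompletion.mk _ _ d)
  obtain ⟨cs, rfl⟩ := AdicCompletion.mk_surjective _ _ e
  obtain ⟨y, hy⟩ := exists_dsect J h S.X₂ f cs
  refine ⟨rs _ (homOfLE hW).op y, ?_⟩
  rw [show q.op = (homOfLE hVU).op ≫ (homOfLE hW).op from Subsingleton.elim _ _, ← rs_rs]
  refine (rs_app (dMap J h S.g).val (homOfLE hW).op y).trans (congrArg _ ?_)
  refine prS_ext h _ _ _ _ fun n => ?_
  refine (prS_dMap J h _ n y).trans ((congrArg _ (hy n).symm).trans ?_)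
  refine (dNat J h S.g f n _).trans (Eq.trans ?_ (hd n))
  refine sub_eq_zero.1 ((map_sub _ _ _).symm.trans (((dQuot J h S.X₃ f n).2 _).2 ?_))
  exact (Submodule.Quotient.eq _).1
    (congrArg (fun t : AdicCompletion (Kf J f) _ => t.val (n + 1)) he)

include hS hAR in
theorem exact_dMap (w : dMap J h S.f ≫ dMap J h S.g = 0) :
    (ShortComplex.mk (dMap J h S.f) (dMap J h S.g) w).Exact := by
  rw [ShortComplex.exact_iff_epi_kernel_lift, epi_iff_locSurj]
  intro U t
  let y : Sec h ((mSys J S.X₂).realMod h) U := secMap (kernel.ι (dMap J h S.g)) U t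
  obtain ⟨R, hR, hR'⟩ := exists_basic J U
  refine ⟨R, hR, fun W q hq => ?_⟩
  obtain ⟨f, hW, hVU⟩ := hR' q hq
  let yV : Sec h ((mSys J S.X₂).realMod h) (trOpen (lv J) (D f)) := rs _ (homOfLE hVU).op y
  have hyV : secMap (dMap J h S.g) (trOpen (lv J) (D f)) yV = 0 := by
    refine (rs_app (dMap J h S.g).val (homOfLE hVU).op y).trans ?_
    refine (congrArg _ (congrArg (fun (q : kernel (dMap J h S.g) ⟶ _) => (q.val.app (op U)).hom t) (kernel.condition (dMap J h S.g)))).trans ?_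
    exact rs_zero _ _
  obtain ⟨d, hd⟩ := exists_drep J h S.X₂ f yV
  have hmem : ∀ n, secLin S.g (D f) (d (n + 1)) ∈ (Kf J f) ^ (n + 1) • (⊤ : Submodule _ _) := fun n => by
    refine ((dQuot J h S.X₃ f n).2 _).1 ((dNat J h S.g f n _).symm.trans ((congrArg _ (hd n)).trans ?_))
    exact (prS_dMap J h _ n yV).symm.trans ((congrArg _ hyV).trans (map_zero _))
  have hch : ∀ n, ∃ z, d (n + 1) - secLin S.f (D f) z ∈ (Kf J f) ^ (n + 1) • (⊤ : Submodule Γ(Spec (CommRingCat.of A), D f) _) := by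
    intro n
    have h1 : secLin S.g (D f) (d (n + 1)) ∈ Submodule.map (secLin S.g (D f))
        ((Kf J f) ^ (n + 1) • (⊤ : Submodule _ _)) := by
      rw [Submodule.map_smul'', Submodule.map_top, LinearMap.range_eq_top.2 (secLin_surjective hS f)]
      exact hmem n
    obtain ⟨w', hw', hw''⟩ := h1
    obtain ⟨z, hz⟩ := (secLin_exact hS f (d (n + 1) - w')).1 (by rw [map_sub, hw'', sub_self])
    exact ⟨z, by rw [hz, sub_sub_cancel]; exact hw'⟩
  choose z hz using hch
  let cs : AdicCompletion.AdicCauchySequence (Kf J f) Γ(tilde (R := CommRingCat.of A) S.X₁, D f) :=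
    AdicCompletion.AdicCauchySequence.mk _ _ (fun i => z (i + n₀)) fun i => by
      rw [SModEq.sub_mem]
      refine secLin_artinRees J hS f hAR i _ ?_
      rw [map_sub]
      have h1 : d (i + n₀ + 1) - secLin S.f (D f) (z (i + n₀)) ∈
          (Kf J f) ^ (i + n₀) • (⊤ : Submodule _ Γ(tilde (R := CommRingCat.of A) S.X₂, D f)) :=
        Submodule.smul_mono (Ideal.pow_le_pow_right (by omega)) le_rfl (hz (i + n₀))
      have h2 : d (i + 1 + n₀ + 1) - secLin S.f (D f) (z (i + 1 + n₀)) ∈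
          (Kf J f) ^ (i + n₀) • (⊤ : Submodule _ Γ(tilde (R := CommRingCat.of A) S.X₂, D f)) :=
        Submodule.smul_mono (Ideal.pow_le_pow_right (by omega)) le_rfl (hz (i + 1 + n₀))
      have h3 : d (i + n₀ + 1) - d (i + 1 + n₀ + 1) ∈ (Kf J f) ^ (i + n₀) • (⊤ : Submodule _ Γ(tilde (R := CommRingCat.of A) S.X₂, D f)) :=
        Submodule.smul_mono (Ideal.pow_le_pow_right (by omega)) le_rfl
          (SModEq.sub_mem.1 (d.property (show i + n₀ + 1 ≤ i + 1 + n₀ + 1 by omega)))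
      convert sub_mem (sub_mem h3 h1) (neg_mem h2) using 1
      abel
  obtain ⟨x, hx⟩ := exists_dsect J h S.X₁ f cs
  refine ⟨rs _ (homOfLE hW).op x, ?_⟩
  apply injective_app (kernel.ι (dMap J h S.g))
  refine Eq.trans ?_ (rs_app (kernel.ι (dMap J h S.g)).val q.op t).symm
  refine (congrArg (fun (k : (mSys J S.X₁).realMod h ⟶ (mSys J S.X₂).realMod h) =>
    (k.val.app (op W)).hom (rs _ (homOfLE hW).op x)) (kernel.lift_ι (dMap J h S.g) (dMap J h S.f) w)).trans ?_
  rw [show q.op = (homOfLE hVU).op ≫ (homOfLE hW).op from Subsingleton.elim _ _]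
  refine Eq.trans ?_ (rs_rs ((forg ((spf J).Osh h)).obj ((mSys J S.X₂).realMod h)) (homOfLE hVU).op (homOfLE hW).op y)
  refine (rs_app (dMap J h S.f).val (homOfLE hW).op x).trans (congrArg _ ?_)
  refine prS_ext h _ _ _ _ fun n => ?_
  refine (prS_dMap J h _ n x).trans ((congrArg _ (hx n).symm).trans ?_)
  refine (dNat J h S.f f n _).trans (Eq.trans ?_ (hd n))
  refine sub_eq_zero.1 ((map_sub _ _ _).symm.trans (((dQuot J h S.X₂ f n).2 _).2 ?_))
  have h1 : d (n + 1 + n₀ + 1) - secLin S.f (D f) (z (n + 1 + n₀)) ∈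
      (Kf J f) ^ (n + 1) • (⊤ : Submodule _ Γ(tilde (R := CommRingCat.of A) S.X₂, D f)) :=
    Submodule.smul_mono (Ideal.pow_le_pow_right (by omega)) le_rfl (hz (n + 1 + n₀))
  have h2 : d (n + 1) - d (n + 1 + n₀ + 1) ∈ (Kf J f) ^ (n + 1) • (⊤ : Submodule _ Γ(tilde (R := CommRingCat.of A) S.X₂, D f)) :=
    SModEq.sub_mem.1 (d.property (show n + 1 ≤ n + 1 + n₀ + 1 by omega))
  convert neg_mem (add_mem h1 h2) using 1
  show secLin S.f (D f) (z (n + 1 + n₀)) - d (n + 1) = _
  abel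

include hS hAR in
/-- Completion is exact under uniform Artin–Rees. -/
theorem shortExact_dMap (w : dMap J h S.f ≫ dMap J h S.g = 0) :
    (ShortComplex.mk _ _ w).ShortExact :=
  { exact := exact_dMap J h hS hAR w, mono_f := mono_dMap J h hS hAR, epi_g := epi_dMap J h hS }

end Groth.Agent.H24FSpf
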