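import Groth.Agent.H24FSpf.Base
import Groth.Agent.H17.FPMod.Coherent
import Groth.Agent.S11526

/-!
# Finite presentation of finite modules with finitely presented truncations
-/

set_option autoImplicit false
set_option linter.style.haveILetI false
universe u

open AdicRing

namespace Groth.Agent.H24FSpf

variable {R : Type u} [CommRing R] {I : Ideal R} {A : Type u} [CommRing A] [Algebra R A]

/-- Over an algebra topologically of finite presentation, a finite module with finitely presented
truncations is finitely presented. -/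
theorem fp_of_trunc (hR : IsBase R I) (hA : TopFinitePresentation R I A) (M : Type u) [AddCommGroup M]
    [Module A M] [Module.Finite A M]
    (hq : ∀ n : ℕ, Module.FinitePresentation A (M ⧸ (I.map (algebraMap R A)) ^ (n + 1) • (⊤ : Submodule A M))) :
    Module.FinitePresentation A M := by
  obtain ⟨l, φ, hφ, hK⟩ := hA
  have hA' : TopFiniteType R I A := ⟨l, φ, hφ⟩
  have hcoh : ∀ K : Ideal A, K.FG → Module.FinitePresentation A K := fun K hK' =>
    S11526.result R I hR A ⟨l, φ, hφ, hK⟩ K hK'
  set J := I.map (algebraMap R A) with hJdef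
  have hJ : J.FG := fg_map_of_isBase hR
  obtain ⟨s, ψ, hψ⟩ := Module.Finite.exists_fin' A M
  refine Module.finitePresentation_of_surjective ψ hψ ?_
  let N := LinearMap.ker ψ
  let P := Fin s → A
  let Nsat : Submodule A P :=
    { carrier := {x | ∃ m : ℕ, ∀ a ∈ J ^ m, a • x ∈ N}
      zero_mem' := ⟨0, fun a _ => by simp⟩
      add_mem' := by
        rintro x y ⟨m, hm⟩ ⟨m', hm'⟩
        refine ⟨m + m', fun a ha => ?_⟩
        rw [smul_add]
        exact add_mem (hm a (Ideal.pow_le_pow_right (Nat.le_add_right m m') ha))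
          (hm' a (Ideal.pow_le_pow_right (Nat.le_add_left m' m) ha))
      smul_mem' := by
        rintro c x ⟨m, hm⟩
        exact ⟨m, fun a ha => by rw [smul_comm]; exact N.smul_mem c (hm a ha)⟩ }
  have hle : N ≤ Nsat := fun x hx => ⟨0, fun a _ => N.smul_mem a hx⟩
  have hsat : Nsat.FG := by
    refine H24Val.fg_of_saturated_topFinite hR hA' Nsat fun x n hx => ?_
    obtain ⟨t, a, ha⟩ := Submodule.fg_iff_exists_fin_generating_family.1
      ((H24Val.fg_of_isBase hR).pow (n := n))
    have hgen : ∀ i, a i • x ∈ Nsat := fun i => hx _ (ha ▸ Submodule.subset_span ⟨i, rfl⟩)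
    choose m hm using hgen
    refine ⟨Finset.univ.sup m + n, fun b hb => ?_⟩
    rw [pow_add, hJdef, ← Ideal.map_pow (n := n), ← hJdef] at hb
    refine Submodule.mul_induction_on hb (fun c hc d hd => ?_) fun p q hp hq => by
      rw [add_smul]; exact add_mem hp hq
    refine Submodule.span_induction (p := fun d _ => (c * d) • x ∈ N) ?_ ?_ ?_ ?_
      (show d ∈ Ideal.span (Set.range fun i => algebraMap R A (a i)) by
        rw [show (fun i => algebraMap R A (a i)) = algebraMap R A ∘ a from rfl, Set.range_comp, ← Ideal.map_span]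
        exact (show Ideal.span (Set.range a) = I ^ n from ha).symm ▸ hd)
    · rintro _ ⟨i, rfl⟩
      rw [mul_smul, algebraMap_smul]
      exact hm i c (Ideal.pow_le_pow_right (Finset.le_sup (Finset.mem_univ i)) hc)
    · simp
    · intro p q _ _ hp hq
      rw [mul_add, add_smul]
      exact add_mem hp hq
    · intro r p _ hp
      rw [smul_eq_mul, mul_left_comm, mul_smul]
      exact N.smul_mem r hp
  obtain ⟨t, g, hg⟩ := Submodule.fg_iff_exists_fin_generating_family.1 hsat
  choose m hm using fun i => (hg ▸ Submodule.subset_span ⟨i, rfl⟩ : g i ∈ Nsat)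
  let c := Finset.univ.sup m
  have hc : J ^ c • Nsat ≤ N := by
    rw [← hg, Submodule.smul_le]
    intro b hb y hy
    refine Submodule.span_induction (p := fun y _ => b • y ∈ N) ?_ ?_ ?_ ?_ hy
    · rintro _ ⟨i, rfl⟩
      exact hm i b (Ideal.pow_le_pow_right (Finset.le_sup (Finset.mem_univ i)) hb)
    · simp
    · intro p q _ _ hp hq
      rw [smul_add]
      exact add_mem hp hq
    · intro r p _ hp
      rw [smul_comm]
      exact N.smul_mem r hp
  obtain ⟨n₀, hn₀⟩ := H24Val.exists_artinRees_topFinite (M := P) hR hA' Nsat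
  let Q : Submodule A P := N ⊔ J ^ (c + n₀ + 1) • ⊤
  have hQ : Q.FG := by
    let π : P →ₗ[A] M ⧸ J ^ (c + n₀ + 1) • (⊤ : Submodule A M) := (Submodule.mkQ _).comp ψ
    haveI : Module.FinitePresentation A (M ⧸ J ^ (c + n₀ + 1) • (⊤ : Submodule A M)) := hq (c + n₀)
    have h1 := Module.FinitePresentation.fg_ker π ((Submodule.mkQ_surjective _).comp hψ)
    have h2 : LinearMap.ker π = Q := by
      rw [LinearMap.ker_comp, Submodule.ker_mkQ, ← Submodule.map_top ψ |>.trans (LinearMap.range_eq_top.2 hψ),
        ← Submodule.map_smul'', Submodule.comap_map_eq]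
      exact sup_comm _ _
    exact h2 ▸ h1
  have hmod : N = Q ⊓ Nsat := by
    refine le_antisymm (le_inf le_sup_left hle) fun x hx => ?_
    obtain ⟨y, hy, z, hz, rfl⟩ := Submodule.mem_sup.1 hx.1
    have hzs : z ∈ Nsat := by
      have := sub_mem hx.2 (hle hy)
      rwa [add_sub_cancel_left] at this
    refine add_mem hy (hc ?_)
    rw [← Submodule.restrictScalars_mem R, hJdef, ← Ideal.map_pow, Submodule.restrictScalars_map_smul_eq]
    refine hn₀ c ⟨?_, hzs⟩
    have hz' : z ∈ J ^ (c + n₀) • (⊤ : Submodule A P) :=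
      Submodule.smul_mono (Ideal.pow_le_pow_right (Nat.le_succ _)) le_rfl hz
    rw [← Submodule.restrictScalars_mem R, hJdef, ← Ideal.map_pow, Submodule.restrictScalars_map_smul_eq,
      Submodule.restrictScalars_top] at hz'
    exact hz'
  haveI : Module.FinitePresentation A Nsat := H17.FPMod.fp_submodule hcoh Nsat hsat
  haveI : Module.FinitePresentation A (P ⧸ Q) := Module.finitePresentation_of_surjective Q.mkQ
    Q.mkQ_surjective (by rw [Submodule.ker_mkQ]; exact hQ)
  haveI := H17.FPMod.fp_ker hcoh (Q.mkQ.comp Nsat.subtype)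
  have hf := (Module.Finite.iff_fg.1 (inferInstance : Module.Finite A (LinearMap.ker (Q.mkQ.comp Nsat.subtype)))).map
    Nsat.subtype
  rw [LinearMap.ker_comp, Submodule.ker_mkQ, Submodule.map_comap_subtype, inf_comm, ← hmod] at hf
  exact hf

end Groth.Agent.H24FSpf
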