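import Groth.Agent.H24FSpf.ToReal
import Groth.Agent.H24FSpf.FPAlg
import Groth.Agent.H24FSpf.Exact
import Groth.Agent.H8Props.FinLocFree.Sheaf
import Groth.Agent.H29Fitt.PullbackQCoh
import Groth.Agent.H10Coh.BaseChange
import Groth.Agent.H16Derived.QCohD.Equiv
import Groth.Agent.H22Alg.PnDeg0

/-!
# Coherent modules on the formal spectrum come from finitely presented modules
-/

set_option autoImplicit false
set_option linter.style.haveILetI false
set_option linter.unusedSectionVars false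
universe u

open CategoryTheory CategoryTheory.Limits AlgebraicGeometry TopologicalSpace Opposite

attribute [-instance] CategoryTheory.catToReflQuiver

namespace Groth.Agent.H24FSpf

open H15Site.ModTensor H15Site.ModRel H15Site.LocGen H15Site.LocPres H24FMod

theorem comp_toPush_app {𝔛 : FSch.Sys.{u}} (h : 𝔛.IsFormal) {𝔐 𝔑 : FSch.ModSys 𝔛} {k : ℕ}
    (b : 𝔐.F k ⟶ 𝔑.F k) (b' : 𝔐.F (k + 1) ⟶ 𝔑.F (k + 1)) (U : (𝔛.X 0).Opens)
    (x : Γ(𝔐.F (k + 1), 𝔛.lvU h (k + 1) U))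
    (e : b.app _ (tr h 𝔐.F 𝔐.toPush k U x) = tr h 𝔑.F 𝔑.toPush k U (b'.app _ x)) :
    (𝔐.toPush k ≫ (Scheme.Modules.pushforward (𝔛.ι k)).map b).app (𝔛.lvU h (k + 1) U) x =
      (b' ≫ 𝔑.toPush k).app (𝔛.lvU h (k + 1) U) x :=
  (bijective_res_of_le_le (𝔑.F k) (𝔛.lvU_le h k U) (𝔛.lvU_succ h k U).le).1
    ((app_map k b _ _).symm.trans e)

theorem comm_of_κ {X : Scheme.{u}} {𝔛 : FSch.Sys.{u}} (h : 𝔛.IsFormal) (c : ∀ n, 𝔛.X n ⟶ X)
    (hc : ∀ n, 𝔛.ι n ≫ c (n + 1) = c n)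
    (T : ∀ n, Scheme.Modules.pullback (c (n + 1)) ⋙ Scheme.Modules.pullback (𝔛.ι n) ≅ Scheme.Modules.pullback (c n))
    (hT : ∀ n, T n = Scheme.Modules.pullbackComp (𝔛.ι n) (c (n + 1)) ≪≫ Scheme.Modules.pullbackCongr (hc n))
    {F : X.Modules} {V : X.Opens} {𝔑 : FSch.ModSys 𝔛} {k : ℕ}
    (b : (pbSys c T F).F k ⟶ 𝔑.F k) (b' : (pbSys c T F).F (k + 1) ⟶ 𝔑.F (k + 1))
    (m : Γ(F, V)) (y : Sec h (𝔑.realMod h) (trOpen c V))
    (hb : b.app _ (κ h c hc T F V k m) = prS h 𝔑.F 𝔑.toPush k (trOpen c V) y)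
    (hb' : b'.app _ (κ h c hc T F V (k + 1) m) = prS h 𝔑.F 𝔑.toPush (k + 1) (trOpen c V) y) :
    ((pbSys c T F).toPush k ≫ (Scheme.Modules.pushforward (𝔛.ι k)).map b).app _ (κ h c hc T F V (k + 1) m) =
      (b' ≫ 𝔑.toPush k).app _ (κ h c hc T F V (k + 1) m) := by
  refine comp_toPush_app h b b' (trOpen c V) _ ?_
  rw [tr_κ h c hc T hT F V k m, hb, hb']
  exact (tr_prS h 𝔑.F 𝔑.toPush k (trOpen c V) y).symm

theorem comm_of_ext {X : Scheme.{u}} {𝔛 : FSch.Sys.{u}} (h : 𝔛.IsFormal) (c : ∀ n, 𝔛.X n ⟶ X)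
    (hc : ∀ n, 𝔛.ι n ≫ c (n + 1) = c n)
    (T : ∀ n, Scheme.Modules.pullback (c (n + 1)) ⋙ Scheme.Modules.pullback (𝔛.ι n) ≅ Scheme.Modules.pullback (c n))
    (hT : ∀ n, T n = Scheme.Modules.pullbackComp (𝔛.ι n) (c (n + 1)) ≪≫ Scheme.Modules.pullbackCongr (hc n))
    {F : X.Modules} {V : X.Opens} {𝔑 : FSch.ModSys 𝔛} {k : ℕ} {ι' : Type u}
    (m : ι' → Γ(F, V)) (y : ι' → Sec h (𝔑.realMod h) (trOpen c V))
    (hext : ∀ (G : (𝔛.X (k + 1)).Modules) (γ γ' : (pbSys c T F).F (k + 1) ⟶ G),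
      (∀ i, γ.app _ (κ h c hc T F V (k + 1) (m i)) = γ'.app _ (κ h c hc T F V (k + 1) (m i))) → γ = γ')
    (b : (pbSys c T F).F k ⟶ 𝔑.F k) (b' : (pbSys c T F).F (k + 1) ⟶ 𝔑.F (k + 1))
    (hb : ∀ i, b.app _ (κ h c hc T F V k (m i)) = prS h 𝔑.F 𝔑.toPush k (trOpen c V) (y i))
    (hb' : ∀ i, b'.app _ (κ h c hc T F V (k + 1) (m i)) = prS h 𝔑.F 𝔑.toPush (k + 1) (trOpen c V) (y i)) :
    (pbSys c T F).toPush k ≫ (Scheme.Modules.pushforward (𝔛.ι k)).map b = b' ≫ 𝔑.toPush k :=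
  hext _ _ _ fun i => comm_of_κ h c hc T hT b b' (m i) (y i) (hb i) (hb' i)

/-- A linear map to global sections as a morphism. -/
noncomputable def linToΓ {R : CommRingCat.{u}} {M : ModuleCat.{u} R} (N : (Spec R).Modules) (f : M → Γ(N, ⊤))
    (hadd : ∀ m m', f (m + m') = f m + f m') (hsmul : ∀ (a : R) (m : M), f (a • m) = a • f m) :
    M ⟶ (moduleSpecΓFunctor (R := R)).obj N :=
  ModuleCat.ofHom (X := M) (Y := (moduleSpecΓFunctor (R := R)).obj N)
    { toFun := f, map_add' := hadd, map_smul' := hsmul }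

theorem linToΓ_apply {R : CommRingCat.{u}} {M : ModuleCat.{u} R} (N : (Spec R).Modules) (f : M → Γ(N, ⊤))
    (hadd : ∀ m m', f (m + m') = f m + f m') (hsmul : ∀ (a : R) (m : M), f (a • m) = a • f m) (m : M) :
    linToΓ N f hadd hsmul m = f m := rfl

variable {A : Type u} [CommRing A]

theorem sA_top_bijective : Function.Bijective (sA (⊤ : (Spec (CommRingCat.of A)).Opens)) := by
  have e : ∀ a, sA (⊤ : (Spec (CommRingCat.of A)).Opens) a = (Scheme.ΓSpecIso (CommRingCat.of A)).inv a := fun a => by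
    show (Spec (CommRingCat.of A)).presheaf.map (Opens.leTop _).op ((Scheme.ΓSpecIso (CommRingCat.of A)).inv a) = _
    rw [show (Opens.leTop (⊤ : (Spec (CommRingCat.of A)).Opens)).op = 𝟙 _ from Subsingleton.elim _ _,
      CategoryTheory.Functor.map_id]
    rfl
  rw [show ⇑(sA (⊤ : (Spec (CommRingCat.of A)).Opens)) = fun a => (Scheme.ΓSpecIso (CommRingCat.of A)).inv a from
    funext e]
  exact ConcreteCategory.bijective_of_isIso (Scheme.ΓSpecIso (CommRingCat.of A)).inv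

variable (J : Ideal A) (h : (spf J).IsFormal) (𝔐 : FSch.ModSys (spf J))

/-- The trace of the whole spectrum. -/
noncomputable abbrev T₀ : ((spf J).X 0).Opens := trOpen (lv J) (⊤ : (Spec (CommRingCat.of A)).Opens)

/-- The scalars on global sections of the levels. -/
noncomputable def ρA (n : ℕ) : A →+* Γ((spf J).X n, (spf J).lvU h n (T₀ J)) :=
  (ρ h (lv J) (lv_comm J) n ⊤).comp (sA ⊤)

theorem surjective_ρA (n : ℕ) : Function.Surjective (ρA J h n) :=
  (surjective_ρ J h (isAffineOpen_top _) n).comp sA_top_bijective.2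

theorem ρA_eq_zero_iff (n : ℕ) (a : A) : ρA J h n a = 0 ↔ a ∈ J ^ (n + 1) := by
  rw [ρA, RingHom.comp_apply, ← RingHom.mem_ker, ker_ρ J h (isAffineOpen_top _), ← Ideal.map_pow,
    Ideal.mem_map_iff_of_surjective _ sA_top_bijective.2]
  exact ⟨fun ⟨b, hb, e⟩ => sA_top_bijective.1 e ▸ hb, fun ha => ⟨a, ha, rfl⟩⟩

theorem trO_ρA (n : ℕ) (a : A) : trO h n (T₀ J) (ρA J h (n + 1) a) = ρA J h n a :=
  trO_ρ h (lv J) (lv_comm J) n ⊤ (sA ⊤ a)

/-- The scalars on global sections of the levels. -/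
@[instance_reducible]
noncomputable def gMod (n : ℕ) : Module A Γ(𝔐.F n, (spf J).lvU h n (T₀ J)) :=
  Module.compHom _ (ρA J h n)

/-- The scalars on global sections of the limit. -/
@[instance_reducible]
noncomputable def gModL : Module A (Sec h (𝔐.realMod h) (T₀ J)) :=
  Module.compHom _ ((ιH J h ⊤).comp (sA ⊤))

variable (h𝔐 : ∀ n, Coh.IsQCoh (𝔐.F n))

/-- The global sections of a system. -/
noncomputable def globSys :
    letI := gMod J h 𝔐
    letI := gModL J h 𝔐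
    H24Adic.AdicSystem J (fun n => Γ(𝔐.F n, (spf J).lvU h n (T₀ J))) (Sec h (𝔐.realMod h) (T₀ J)) :=
  letI := gMod J h 𝔐
  letI := gModL J h 𝔐
  { f := fun n =>
      { toFun := tr h 𝔐.F 𝔐.toPush n (T₀ J)
        map_add' := map_add _
        map_smul' := fun a y => by
          show tr h 𝔐.F 𝔐.toPush n (T₀ J) (ρA J h (n + 1) a • y) = ρA J h n a • _
          rw [tr_smul, trO_ρA] }
    hf := fun n => (tr_trOpen J h (isAffineOpen_top _) 𝔐 h𝔐 n).1
    hker := fun n => by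
      refine le_antisymm (fun y hy => ?_) ?_
      · refine Submodule.smul_induction_on ((tr_trOpen J h (isAffineOpen_top _) 𝔐 h𝔐 n).2 y hy)
          (fun a ha z _ => ?_) fun p q hp hq => add_mem hp hq
        obtain ⟨r, rfl⟩ := surjective_ρA J h (n + 1) a
        rw [RingHom.mem_ker, trO_ρA, ρA_eq_zero_iff] at ha
        exact Submodule.smul_mem_smul ha (Submodule.mem_top (x := z))
      · rw [Submodule.smul_le]
        intro r hr z _
        show tr h 𝔐.F 𝔐.toPush n (T₀ J) (ρA J h (n + 1) r • z) = 0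
        rw [tr_smul, trO_ρA, (ρA_eq_zero_iff J h n r).2 hr, zero_smul]
    π := fun n =>
      { toFun := prS h 𝔐.F 𝔐.toPush n (T₀ J)
        map_add' := map_add _
        map_smul' := fun a x => by
          refine (prS_smul h 𝔐.F 𝔐.toPush n (T₀ J) _ x).trans ?_
          exact congrArg (· • prS h 𝔐.F 𝔐.toPush n (T₀ J) x) (oP_ιH J h n (sA ⊤ a)) }
    hπ := fun n => LinearMap.ext fun x => tr_prS h 𝔐.F 𝔐.toPush n (T₀ J) x
    hinj := fun x hx => prS_ext h 𝔐.F 𝔐.toPush x 0 fun n => (hx n).trans (map_zero _).symm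
    hlift := fun s hs => exists_prS h 𝔐.F 𝔐.toPush (T₀ J) s hs }

/-- The module of global sections of a system. -/
noncomputable def glob : ModuleCat.{u} A :=
  letI := gModL J h 𝔐
  ModuleCat.of A (Sec h (𝔐.realMod h) (T₀ J))

/-- An element of the module of global sections as a section. -/
noncomputable def glob.sec (m : glob J h 𝔐) : Sec h (𝔐.realMod h) (T₀ J) := m

theorem isCoh_finitePresentation (hJ : J.FG) {n : ℕ} (hfp : CohB1.IsFP (𝔐.F n)) :
    letI := gMod J h 𝔐 n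
    Module.FinitePresentation A Γ(𝔐.F n, (spf J).lvU h n (T₀ J)) := by
  letI := gMod J h 𝔐 n
  haveI := H8Props.FinLocFree.finitePresentation_sections (𝔐.F n) hfp
    (isAffineOpen_lvU_trOpen J h (V := ⊤) (isAffineOpen_top _) n)
  letI : Algebra A Γ((spf J).X n, (spf J).lvU h n (T₀ J)) := (ρA J h n).toAlgebra
  haveI : IsScalarTower A Γ((spf J).X n, (spf J).lvU h n (T₀ J)) Γ(𝔐.F n, (spf J).lvU h n (T₀ J)) :=
    IsScalarTower.of_algebraMap_smul fun _ _ => rfl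
  haveI : Module.FinitePresentation A Γ((spf J).X n, (spf J).lvU h n (T₀ J)) := by
    refine Module.finitePresentation_of_surjective (Algebra.linearMap A _) (surjective_ρA J h n) ?_
    rw [show LinearMap.ker (Algebra.linearMap A Γ((spf J).X n, (spf J).lvU h n (T₀ J))) = J ^ (n + 1) from
      Submodule.ext fun a => ρA_eq_zero_iff J h n a]
    exact hJ.pow
  exact Module.FinitePresentation.trans (R := A) (M := Γ(𝔐.F n, (spf J).lvU h n (T₀ J)))
    Γ((spf J).X n, (spf J).lvU h n (T₀ J))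

include h𝔐 in
theorem glob_finite_quot [IsAdicComplete J A] (hJ : J.FG) (hfp : ∀ n, CohB1.IsFP (𝔐.F n)) :
    Module.Finite A (glob J h 𝔐) ∧
      ∀ n : ℕ, Module.FinitePresentation A (glob J h 𝔐 ⧸ J ^ (n + 1) • (⊤ : Submodule A (glob J h 𝔐))) := by
  letI := gMod J h 𝔐
  letI := gModL J h 𝔐
  haveI : Module.FinitePresentation A Γ(𝔐.F 0, (spf J).lvU h 0 (T₀ J)) :=
    isCoh_finitePresentation J h 𝔐 hJ (hfp 0)
  let S := globSys J h 𝔐 h𝔐
  refine ⟨S.finite, fun n => ?_⟩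
  haveI : Module.FinitePresentation A Γ(𝔐.F n, (spf J).lvU h n (T₀ J)) :=
    isCoh_finitePresentation J h 𝔐 hJ (hfp n)
  let e := (LinearMap.quotKerEquivOfSurjective (S.π n) (S.π_surjective n))
  exact Module.FinitePresentation.of_equiv
    ((Submodule.quotEquivOfEq _ _ (S.ker_eq_of_finite n)).symm.trans e).symm

/-- The component of the comparison morphism on the spectrum. -/
noncomputable def φlev (n : ℕ) :
    glob J h 𝔐 ⟶ (moduleSpecΓFunctor (R := CommRingCat.of A)).obj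
      ((Scheme.Modules.pushforward (lv J n)).obj (𝔐.F n)) :=
  linToΓ (R := CommRingCat.of A) _
    (fun m : glob J h 𝔐 => (𝔐.F n).presheaf.map
      (homOfLE (lvU_trOpen h (lv J) (lv_comm J) n (⊤ : (Spec (CommRingCat.of A)).Opens)).ge).op
        (prS h 𝔐.F 𝔐.toPush n (T₀ J) (glob.sec J h 𝔐 m)))
    (fun m m' => by
        show (𝔐.F n).presheaf.map _ (prS h 𝔐.F 𝔐.toPush n (T₀ J)
          (glob.sec J h 𝔐 m + glob.sec J h 𝔐 m')) = _
        exact (congrArg _ (map_add (prS h 𝔐.F 𝔐.toPush n (T₀ J)) _ _)).trans (map_add _ _ _))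
    (fun a m => by
        show (𝔐.F n).presheaf.map _ (prS h 𝔐.F 𝔐.toPush n (T₀ J)
          (ιH J h ⊤ (sA ⊤ a) • glob.sec J h 𝔐 m)) = _
        refine (congrArg _ (prS_smul h 𝔐.F 𝔐.toPush n (T₀ J) _ _)).trans ?_
        refine ((𝔐.F n).map_smul _ _ _).trans ?_
        refine Eq.trans ?_ (Scheme.Modules.smul_Spec_def (R := CommRingCat.of A)
          (M := (Scheme.Modules.pushforward (lv J n)).obj (𝔐.F n)) (U := ⊤) a _).symm
        refine congrArg₂ (· • ·) ?_ rfl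
        rw [oP_ιH]
        refine ((congr($(((spf J).X n).presheaf.map_comp (homOfLE (lvU_trOpen h (lv J) (lv_comm J) n ⊤).le).op
          (homOfLE (lvU_trOpen h (lv J) (lv_comm J) n (⊤ : (Spec (CommRingCat.of A)).Opens)).ge).op)
          ((lv J n).app ⊤ (sA ⊤ a)))).symm).trans ?_
        rw [Subsingleton.elim ((homOfLE (lvU_trOpen h (lv J) (lv_comm J) n (⊤ : (Spec (CommRingCat.of A)).Opens)).le).op ≫
          (homOfLE (lvU_trOpen h (lv J) (lv_comm J) n (⊤ : (Spec (CommRingCat.of A)).Opens)).ge).op) (𝟙 _),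
          CategoryTheory.Functor.map_id]
        rfl)

/-- The comparison of levels. -/
noncomputable def βlev (n : ℕ) : (mSys J (glob J h 𝔐)).F n ⟶ 𝔐.F n :=
  ((Scheme.Modules.pullbackPushforwardAdjunction (lv J n)).homEquiv _ _).symm
    (((tilde.adjunction (R := CommRingCat.of A)).homEquiv _ _).symm (φlev J h 𝔐 n))

theorem βlev_κ (n : ℕ) (m : glob J h 𝔐) :
    (βlev J h 𝔐 n).app ((spf J).lvU h n (T₀ J))
      (κ h (lv J) (lv_comm J) (FSch.complTransIso (FSch.idealSpec A J)) _ ⊤ n (toSec (glob J h 𝔐) ⊤ m)) =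
      prS h 𝔐.F 𝔐.toPush n (T₀ J) (glob.sec J h 𝔐 m) := by
  let adj := Scheme.Modules.pullbackPushforwardAdjunction (lv J n)
  let ψ := ((tilde.adjunction (R := CommRingCat.of A)).homEquiv _ _).symm (φlev J h 𝔐 n)
  have h1 : adj.unit.app _ ≫ (Scheme.Modules.pushforward (lv J n)).map (βlev J h 𝔐 n) = ψ :=
    (adj.homEquiv_unit _ _ _).symm.trans (Equiv.apply_symm_apply _ _)
  have h2 : ψ.app ⊤ (toSec (glob J h 𝔐) ⊤ m) = φlev J h 𝔐 n m := by
    have h3 : (tilde.adjunction (R := CommRingCat.of A)).homEquiv _ _ ψ = φlev J h 𝔐 n :=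
      Equiv.apply_symm_apply _ _
    rw [← h3]
    rfl
  have h4 : (βlev J h 𝔐 n).app (lv J n ⁻¹ᵁ ⊤)
      (OmegaSh.pullSect (lv J n) (tilde (R := CommRingCat.of A) (glob J h 𝔐)) ⊤ (toSec (glob J h 𝔐) ⊤ m)) =
      φlev J h 𝔐 n m :=
    (congr($(congrArg (fun q => Scheme.Modules.Hom.app q ⊤) h1) (toSec (glob J h 𝔐) ⊤ m))).trans h2
  refine (app_map n (βlev J h 𝔐 n) (lvU_trOpen h (lv J) (lv_comm J) n ⊤).le _).trans ?_
  refine (congrArg _ h4).trans ?_
  show (𝔐.F n).presheaf.map _ ((𝔐.F n).presheaf.map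
    (homOfLE (lvU_trOpen h (lv J) (lv_comm J) n (⊤ : (Spec (CommRingCat.of A)).Opens)).ge).op
      (prS h 𝔐.F 𝔐.toPush n (T₀ J) (glob.sec J h 𝔐 m))) = _
  refine (map_map_eq (𝔐.F n) _ _ _).trans ?_
  rw [show (homOfLE ((lvU_trOpen h (lv J) (lv_comm J) n (⊤ : (Spec (CommRingCat.of A)).Opens)).le.trans
    (lvU_trOpen h (lv J) (lv_comm J) n (⊤ : (Spec (CommRingCat.of A)).Opens)).ge)).op = 𝟙 _ from
      Subsingleton.elim _ _, CategoryTheory.Functor.map_id]
  rfl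

/-- Morphisms out of a level are determined on elements. -/
theorem hom_ext_level {M : ModuleCat.{u} A} (n : ℕ) {G : ((spf J).X n).Modules}
    (γ γ' : (mSys J M).F n ⟶ G)
    (e : ∀ m : M, γ.app ((spf J).lvU h n (T₀ J))
        (κ h (lv J) (lv_comm J) (FSch.complTransIso (FSch.idealSpec A J)) _ ⊤ n (toSec M ⊤ m)) =
      γ'.app ((spf J).lvU h n (T₀ J))
        (κ h (lv J) (lv_comm J) (FSch.complTransIso (FSch.idealSpec A J)) _ ⊤ n (toSec M ⊤ m))) : γ = γ' := by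
  let adj := Scheme.Modules.pullbackPushforwardAdjunction (lv J n)
  refine (adj.homEquiv _ _).injective (((tilde.adjunction (R := CommRingCat.of A)).homEquiv _ _).injective
    (ModuleCat.hom_ext (LinearMap.ext fun m => ?_)))
  show ((adj.homEquiv _ _ γ).app ⊤ (toSec M ⊤ m)) = (adj.homEquiv _ _ γ').app ⊤ (toSec M ⊤ m)
  rw [adj.homEquiv_unit, adj.homEquiv_unit]
  show γ.app (lv J n ⁻¹ᵁ ⊤) (OmegaSh.pullSect (lv J n) (tilde (R := CommRingCat.of A) M) ⊤ (toSec M ⊤ m)) =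
    γ'.app (lv J n ⁻¹ᵁ ⊤) (OmegaSh.pullSect (lv J n) (tilde (R := CommRingCat.of A) M) ⊤ (toSec M ⊤ m))
  refine (bijective_res_of_le_le G (lvU_trOpen h (lv J) (lv_comm J) n (⊤ : (Spec (CommRingCat.of A)).Opens)).le
    (lvU_trOpen h (lv J) (lv_comm J) n (⊤ : (Spec (CommRingCat.of A)).Opens)).ge).1 ?_
  exact (app_map n γ _ _).symm.trans ((e m).trans (app_map n γ' _ _))

theorem βlev_comm (k : ℕ) :
    (mSys J (glob J h 𝔐)).toPush k ≫ (Scheme.Modules.pushforward ((spf J).ι k)).map (βlev J h 𝔐 k) =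
      βlev J h 𝔐 (k + 1) ≫ 𝔐.toPush k := by
  exact comm_of_ext h (lv J) (lv_comm J) (FSch.complTransIso (FSch.idealSpec A J)) (fun _ => rfl)
    (toSec (glob J h 𝔐) ⊤) (glob.sec J h 𝔐)
    (fun G γ γ' e => hom_ext_level J h (k + 1) γ γ' e)
    (βlev J h 𝔐 k) (βlev J h 𝔐 (k + 1)) (βlev_κ J h 𝔐 k) (βlev_κ J h 𝔐 (k + 1))

include h𝔐 in
theorem bijective_βlev_top [IsAdicComplete J A] (hJ : J.FG) (hfp : CohB1.IsFP (𝔐.F 0)) (n : ℕ) :
    Function.Bijective ((βlev J h 𝔐 n).app ((spf J).lvU h n (T₀ J))) := by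
  letI := gMod J h 𝔐
  letI := gModL J h 𝔐
  haveI : Module.FinitePresentation A Γ(𝔐.F 0, (spf J).lvU h 0 (T₀ J)) :=
    isCoh_finitePresentation J h 𝔐 hJ hfp
  let S := globSys J h 𝔐 h𝔐
  have hQ := κ_isQuot h (lv J) (lv_comm J) (FSch.complTransIso (FSch.idealSpec A J)) (J.map (sA ⊤))
    (fun n => ker_lv J n (isAffineOpen_top _)) (isAffineOpen_top _)
    (inferInstance : (tilde (R := CommRingCat.of A) (glob J h 𝔐)).IsQuasicoherent) n
  refine ⟨?_, fun y => ?_⟩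
  · rw [injective_iff_map_eq_zero]
    intro z hz
    obtain ⟨s, rfl⟩ := hQ.1 z
    obtain ⟨m, rfl⟩ := (toSec_bijective (glob J h 𝔐)).2 s
    rw [βlev_κ] at hz
    have hm : m ∈ J ^ (n + 1) • (⊤ : Submodule A (glob J h 𝔐)) :=
      S.ker_eq_of_finite n ▸ (LinearMap.mem_ker.2 hz : glob.sec J h 𝔐 m ∈ LinearMap.ker (S.π n))
    exact (hQ.2 _).2 (toSec_mem_smul J (glob J h 𝔐) ⊤ hm)
  · obtain ⟨x, hx⟩ := S.π_surjective n y
    exact ⟨_, (βlev_κ J h 𝔐 n x).trans hx⟩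

include h𝔐 in
theorem isIso_βlev [IsAdicComplete J A] (hJ : J.FG) (hfp : CohB1.IsFP (𝔐.F 0)) (n : ℕ) :
    IsIso (βlev J h 𝔐 n) := by
  haveI hq : (𝔐.F n).IsQuasicoherent := h𝔐 n
  haveI : ((mSys J (glob J h 𝔐)).F n).IsQuasicoherent :=
    H29Fitt.isQCoh_pullback (lv J n) (tilde (R := CommRingCat.of A) (glob J h 𝔐)) inferInstance
  let g := (Scheme.Modules.pushforward (lv J n)).map (βlev J h 𝔐 n)
  have hb := bijective_βlev_top J h 𝔐 h𝔐 hJ hfp n
  have hg : Function.Bijective (g.app ⊤) := by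
    show Function.Bijective ((βlev J h 𝔐 n).app (lv J n ⁻¹ᵁ ⊤))
    rwa [← lvU_trOpen h (lv J) (lv_comm J) n (⊤ : (Spec (CommRingCat.of A)).Opens)]
  haveI : IsIso g := H16Derived.QCohD.isIso_of_bijective_app_top (R := CommRingCat.of A)
    (H10Coh.isQuasicoherent_pushforward_of_isAffineHom _ _)
    (H10Coh.isQuasicoherent_pushforward_of_isAffineHom _ _) g hg
  refine H22Alg.PnDeg0.isIso_of_bijective_basis _ (fun U => ∃ W, lv J n ⁻¹ᵁ W = U) (fun O x hx => ?_) ?_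
  · obtain ⟨W, hW, hWO⟩ := ((lv J n).isClosedEmbedding.isInducing.isOpen_iff).1 O.isOpen
    exact ⟨O, ⟨⟨W, hW⟩, Opens.ext hWO⟩, hx, le_rfl⟩
  · rintro _ ⟨W, rfl⟩
    refine ⟨fun a b e => ?_, fun y => ⟨(inv g).app W y, ?_⟩⟩
    · have h0 : ∀ z, (inv g).app W (g.app W z) = z := fun z =>
        congr($(congrArg (fun q => Scheme.Modules.Hom.app q W) (IsIso.hom_inv_id g)) z)
      exact (h0 a).symm.trans ((congrArg ((inv g).app W) e).trans (h0 b))
    · exact congr($(congrArg (fun q => Scheme.Modules.Hom.app q W) (IsIso.inv_hom_id g)) y)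

include h𝔐 in
theorem exists_iso_glob [IsAdicComplete J A] (hJ : J.FG) (hfp : CohB1.IsFP (𝔐.F 0)) :
    Nonempty ((mSys J (glob J h 𝔐)).realMod h ≅ 𝔐.realMod h) := by
  haveI hiso : ∀ k, IsIso (βlev J h 𝔐 k) := isIso_βlev J h 𝔐 h𝔐 hJ hfp
  let m := FSch.levelSysMap (spf J) h (βlev J h 𝔐) (βlev_comm J h 𝔐)
  haveI : ∀ j, IsIso (m.app j) := fun j => by
    show IsIso ((FSch.levelMor (spf J) h j.unop).push.map (βlev J h 𝔐 j.unop))
    exact ((FSch.levelMor (spf J) h j.unop).push.mapIso (@asIso _ _ _ _ (βlev J h 𝔐 j.unop) (hiso j.unop))).isIso_hom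
  haveI : IsIso m := NatIso.isIso_of_isIso_app m
  let L := FSch.realLimMap (spf J) h (βlev J h 𝔐) (βlev_comm J h 𝔐)
  have hLi : IsIso L := by
    show IsIso (limMap m)
    exact (HasLimit.isoOfNatIso (asIso m)).isIso_hom
  exact ⟨@asIso _ _ _ _ L hLi⟩

section Main

variable {R : Type u} [CommRing R] {I : Ideal R} [Algebra R A]
  (h' : (spf (I.map (algebraMap R A))).IsFormal)
  {𝔉 : FSch.ModF (spf (I.map (algebraMap R A))) h'}

/-- Coherent modules on the formal spectrum come from finitely presented modules. -/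
theorem exists_iso_mSys (hR : AdicRing.IsBase R I) (hA : AdicRing.TopFinitePresentation R I A)
    (h𝔉 : FSch.IsCohF (spf (I.map (algebraMap R A))) h' 𝔉) :
    ∃ M : ModuleCat.{u} A, Module.FinitePresentation A M ∧
      Nonempty (𝔉 ≅ (mSys (I.map (algebraMap R A)) M).realMod h') := by
  have hA' : AdicRing.TopFiniteType R I A := by
    obtain ⟨n, φ, hφ, -⟩ := hA
    exact ⟨n, φ, hφ⟩
  haveI := isAdicComplete_map hR hA' A
  have hJ : (I.map (algebraMap R A)).FG := fg_map_of_isBase hR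
  let 𝔐 := pullSys h' 𝔉
  have hq := isQCoh_pullSys h' h𝔉
  have hfp := isFP_pullSys h' h𝔉
  obtain ⟨hfin, hquot⟩ := glob_finite_quot _ h' 𝔐 hq hJ hfp
  haveI := isIso_toReal h' hR hA' h𝔉
  obtain ⟨e⟩ := exists_iso_glob _ h' 𝔐 hq hJ (hfp 0)
  haveI := hfin
  exact ⟨glob _ h' 𝔐, fp_of_trunc hR hA _ hquot, ⟨asIso (toReal h' 𝔉) ≪≫ e.symm⟩⟩

end Main

end Groth.Agent.H24FSpf
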