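import Groth.Agent.H24FSpf.Hom
import Groth.Agent.H24Val.Transfer

/-!
# Finite modules over topologically finite type algebras on the formal spectrum
-/

set_option autoImplicit false
set_option linter.style.haveILetI false
universe u

open AdicRing

namespace Groth.Agent.H24FSpf

variable {R : Type u} [CommRing R] {I : Ideal R} {A : Type u} [CommRing A] [Algebra R A]

theorem fg_map_of_isBase (hR : IsBase R I) : (I.map (algebraMap R A)).FG :=
  (H24Val.fg_of_isBase hR).map _

theorem isAdicComplete_map (hR : IsBase R I) (hA : TopFiniteType R I A) (M : Type u) [AddCommGroup M]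
    [Module A M] [Module.Finite A M] : IsAdicComplete (I.map (algebraMap R A)) M := by
  letI : Module R M := Module.compHom M (algebraMap R A)
  haveI : IsScalarTower R A M := IsScalarTower.of_algebraMap_smul fun r m => rfl
  exact (IsAdicComplete.map_algebraMap_iff _ _).2 (H24Val.isAdicComplete_topFinite (A := A) hR hA)

end Groth.Agent.H24FSpf
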