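import Groth.Agent.H24FSpf.Ring
import Groth.Agent.H24FMod.PullSec
import Groth.Agent.H15Site.PullLocPres
import Groth.Agent.H10Coh.QCohOps

/-!
# Finitely presented modules on the formal spectrum and their levels
-/

set_option autoImplicit false
set_option linter.style.haveILetI false
set_option linter.unusedSectionVars false
universe u

open CategoryTheory CategoryTheory.Limits AlgebraicGeometry TopologicalSpace Opposite

attribute [-instance] CategoryTheory.catToReflQuiver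

namespace Groth.Agent.H24FSpf

open H15Site.ModTensor H15Site.ModRel H15Site.LocGen H15Site.LocPres H24FMod

section General

variable {𝔛 : FSch.Sys.{u}} (h : 𝔛.IsFormal)

/-- The comparison of direct images from consecutive levels, as an isomorphism. -/
noncomputable def pushCompareIso (k : ℕ) :
    Scheme.Modules.pushforward (𝔛.ι k) ⋙ (FSch.levelMor 𝔛 h (k + 1)).push ≅ (FSch.levelMor 𝔛 h k).push :=
  { hom := FSch.pushCompare 𝔛 h k
    inv := FSch.pushCompareInv 𝔛 h k
    hom_inv_id := NatTrans.ext (funext fun G => FSch.pushCompare_pushCompareInv 𝔛 h k G)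
    inv_hom_id := NatTrans.ext (funext fun G => FSch.pushCompareInv_pushCompare 𝔛 h k G) }

/-- The adjunction of a level through the next one. -/
noncomputable def adjStep (k : ℕ) :
    (FSch.levelMor 𝔛 h (k + 1)).pull ⋙ Scheme.Modules.pullback (𝔛.ι k) ⊣ (FSch.levelMor 𝔛 h k).push :=
  ((FSch.levelMor 𝔛 h (k + 1)).adj.comp (Scheme.Modules.pullbackPushforwardAdjunction (𝔛.ι k))).ofNatIsoRight
    (pushCompareIso h k)

variable (𝔉 : FSch.ModF 𝔛 h)

/-- The system of inverse images of a module to the levels. -/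
noncomputable def pullSys : FSch.ModSys 𝔛 where
  F n := (FSch.levelMor 𝔛 h n).pull.obj 𝔉
  e n := (Adjunction.leftAdjointUniq (adjStep h n) (FSch.levelMor 𝔛 h n).adj).app 𝔉

theorem unit_step (n : ℕ) :
    (FSch.levelMor 𝔛 h (n + 1)).adj.unit.app 𝔉 ≫
      ((FSch.levelMor 𝔛 h (n + 1)).push.map ((pullSys h 𝔉).toPush n) ≫
        (FSch.pushCompare 𝔛 h n).app ((pullSys h 𝔉).F n)) = (FSch.levelMor 𝔛 h n).adj.unit.app 𝔉 := by
  have hh := Adjunction.homEquiv_leftAdjointUniq_hom_app (adjStep h n) (FSch.levelMor 𝔛 h n).adj 𝔉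
  refine Eq.trans ?_ hh
  rw [adjStep, Adjunction.homEquiv_ofNatIsoRight_apply, Adjunction.comp_homEquiv]
  simp only [Equiv.trans_apply, Adjunction.homEquiv_unit (adj := (FSch.levelMor 𝔛 h (n + 1)).adj), Category.assoc]
  rfl

/-- The canonical morphism to the module of the system of inverse images. -/
noncomputable def toReal : 𝔉 ⟶ (pullSys h 𝔉).realMod h :=
  limit.lift (FSch.levelSysOf 𝔛 h (pullSys h 𝔉).F (pullSys h 𝔉).toPush)
    { pt := 𝔉
      π := NatTrans.ofOpSequence (fun n => (FSch.levelMor 𝔛 h n).adj.unit.app 𝔉) fun n => by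
        rw [FSch.levelSysOf_map_succ]
        exact (Category.id_comp _).trans (unit_step h 𝔉 n).symm }

theorem toReal_proj (n : ℕ) :
    toReal h 𝔉 ≫ FSch.realProj 𝔛 h (pullSys h 𝔉).F (pullSys h 𝔉).toPush n =
      (FSch.levelMor 𝔛 h n).adj.unit.app 𝔉 :=
  limit.lift_π _ _

variable {𝔉} (h𝔉 : FSch.IsCohF 𝔛 h 𝔉)

theorem prS_toReal (n : ℕ) (A : (𝔛.X 0).Opens) (x : Sec h 𝔉 A) :
    prS h (pullSys h 𝔉).F (pullSys h 𝔉).toPush n A (secMap (toReal h 𝔉) A x) = unitSec (FSch.levelMor 𝔛 h n) 𝔉 x :=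
  congrArg (fun (q : 𝔉 ⟶ (FSch.levelMor 𝔛 h n).push.obj ((pullSys h 𝔉).F n)) => (q.val.app (op A)).hom x)
    (toReal_proj h 𝔉 n)

theorem isFP_pullSys (h𝔉 : FSch.IsCohF 𝔛 h 𝔉) (n : ℕ) : CohB1.IsFP ((pullSys h 𝔉).F n) := by
  haveI : SheafOfModules.IsFinitePresentation (R := ModSite.ringSh (𝔛.Osh h)) 𝔉 := h𝔉
  exact H15Site.PullLocPres.isFinitePresentation_pull (FSch.levelMor 𝔛 h n) 𝔉

theorem isQCoh_pullSys (h𝔉 : FSch.IsCohF 𝔛 h 𝔉) (n : ℕ) : Coh.IsQCoh ((pullSys h 𝔉).F n) := by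
  haveI : SheafOfModules.IsFinitePresentation (R := ModSite.ringSh (𝔛.Osh h)) 𝔉 := h𝔉
  haveI := H15Site.PullLocPres.isFinitePresentation_pull (FSch.levelMor 𝔛 h n) 𝔉
  exact (inferInstance : SheafOfModules.IsQuasicoherent (R := ModSite.ringSh (𝔛.X n).sheaf)
    ((FSch.levelMor 𝔛 h n).pull.obj 𝔉))

theorem tr_toPush_affine (𝔐 : FSch.ModSys 𝔛) (U : (𝔛.X 0).Opens) (n : ℕ)
    (hW : IsAffineOpen (𝔛.lvU h (n + 1) U)) (h𝔐 : Coh.IsQCoh (𝔐.F (n + 1))) :
    Function.Surjective (tr h 𝔐.F 𝔐.toPush n U) ∧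
      ∀ y, tr h 𝔐.F 𝔐.toPush n U y = 0 →
        y ∈ RingHom.ker (trO h n U) • (⊤ : Submodule Γ(𝔛.X (n + 1), 𝔛.lvU h (n + 1) U)
          Γ(𝔐.F (n + 1), 𝔛.lvU h (n + 1) U)) := by
  haveI := (h n).1
  set W := 𝔛.lvU h (n + 1) U with hWdef
  let ι := 𝔛.ι n
  have hq := H17.PullSect.isQuotOn_of_isAffineOpen ι (𝔐.F (n + 1)) h𝔐 hW
  have hb := bijective_res_of_le_le (𝔐.F n) (𝔛.lvU_le h n U) (𝔛.lvU_succ h n U).le
  have ht : ∀ y, (𝔐.toPush n).app W y = (𝔐.e n).hom.app (ι ⁻¹ᵁ W) (OmegaSh.pullSect ι (𝔐.F (n + 1)) W y) := fun y => by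
    rw [FSch.ModSys.toPush, Adjunction.homEquiv_unit]
    rfl
  have he : Function.Bijective ((𝔐.e n).hom.app (ι ⁻¹ᵁ W)) :=
    ⟨H10Coh.injective_app_of_mono' (𝔐.e n).hom _, fun z => ⟨(𝔐.e n).inv.app _ z,
      congr($(congrArg (fun k => Scheme.Modules.Hom.app k (ι ⁻¹ᵁ W)) (𝔐.e n).inv_hom_id) z)⟩⟩
  refine ⟨fun z => ?_, fun y hy => ?_⟩
  · obtain ⟨z', rfl⟩ := hb.2 z
    obtain ⟨w, rfl⟩ := he.2 z'
    obtain ⟨y, rfl⟩ := hq.1 w
    exact ⟨y, congrArg ((𝔐.F n).presheaf.map (homOfLE (𝔛.lvU_le h n U)).op) (ht y)⟩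
  · have h1 : (𝔐.toPush n).app W y = 0 := hb.1 (hy.trans (map_zero _).symm)
    rw [ht] at h1
    have h2 := hq.2 y (he.1 (h1.trans (map_zero _).symm))
    rwa [trO, ker_appLE_of_eq (f := ι) hW _ (𝔛.lvU_succ h n U).le, Scheme.Hom.ker_apply]

end General

variable {A : Type u} [CommRing A] (J : Ideal A) (h : (spf J).IsFormal)
  {V : (Spec (CommRingCat.of A)).Opens} (hV : IsAffineOpen V) (hJ : J.FG)
  (𝔐 : FSch.ModSys (spf J)) (h𝔐 : ∀ n, Coh.IsQCoh (𝔐.F n))

include hV in
theorem isAffineOpen_lvU_trOpen (n : ℕ) : IsAffineOpen ((spf J).lvU h n (trOpen (lv J) V)) := by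
  rw [lvU_trOpen h (lv J) (lv_comm J) n V]
  exact hV.preimage _

include hV h𝔐 in
theorem tr_trOpen (n : ℕ) :
    Function.Surjective (tr h 𝔐.F 𝔐.toPush n (trOpen (lv J) V)) ∧
      ∀ y, tr h 𝔐.F 𝔐.toPush n (trOpen (lv J) V) y = 0 →
        y ∈ RingHom.ker (trO h n (trOpen (lv J) V)) • (⊤ : Submodule
          Γ((spf J).X (n + 1), (spf J).lvU h (n + 1) (trOpen (lv J) V))
          Γ(𝔐.F (n + 1), (spf J).lvU h (n + 1) (trOpen (lv J) V))) :=
  tr_toPush_affine h 𝔐 (trOpen (lv J) V) n (isAffineOpen_lvU_trOpen J h hV (n + 1)) (h𝔐 (n + 1))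

/-- The scalars on sections of the levels. -/
@[instance_reducible]
noncomputable def lvMod (G : ∀ k, ((spf J).X k).Modules) (U : ((spf J).X 0).Opens) (n : ℕ) :
    Module (OSec h U) Γ(G n, (spf J).lvU h n U) := Module.compHom _ (oP h n U)

/-- The sections of a system of quasi-coherent modules over a trace. -/
noncomputable def secSys :
    letI := lvMod J h 𝔐.F (trOpen (lv J) V)
    H24Adic.AdicSystem (JB J h V) (fun n => Γ(𝔐.F n, (spf J).lvU h n (trOpen (lv J) V)))
      (Sec h (𝔐.realMod h) (trOpen (lv J) V)) :=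
  letI := lvMod J h 𝔐.F (trOpen (lv J) V)
  { f := fun n =>
      { toFun := tr h 𝔐.F 𝔐.toPush n (trOpen (lv J) V)
        map_add' := map_add _
        map_smul' := fun r y => by
          show tr h 𝔐.F 𝔐.toPush n (trOpen (lv J) V) (oP h (n + 1) (trOpen (lv J) V) r • y) =
            oP h n (trOpen (lv J) V) r • _
          rw [tr_smul, trO_oP] }
    hf := fun n => (tr_trOpen J h hV 𝔐 h𝔐 n).1
    hker := fun n => by
      refine le_antisymm (fun y hy => ?_) ?_
      · refine Submodule.smul_induction_on ((tr_trOpen J h hV 𝔐 h𝔐 n).2 y hy)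
          (fun a ha z _ => ?_) fun p q hp hq => add_mem hp hq
        obtain ⟨r, rfl⟩ := surjective_oP_trOpen J h hV (n + 1) a
        rw [RingHom.mem_ker, trO_oP] at ha
        refine Submodule.smul_mem_smul ?_ (Submodule.mem_top (x := z))
        rw [← ker_oP_trOpen J h hV hJ, RingHom.mem_ker]
        exact ha
      · rw [Submodule.smul_le]
        intro r hr z _
        rw [← ker_oP_trOpen J h hV hJ, RingHom.mem_ker] at hr
        show tr h 𝔐.F 𝔐.toPush n (trOpen (lv J) V) (oP h (n + 1) (trOpen (lv J) V) r • z) = 0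
        rw [tr_smul, trO_oP, hr, zero_smul]
    π := fun n =>
      { toFun := prS h 𝔐.F 𝔐.toPush n (trOpen (lv J) V)
        map_add' := map_add _
        map_smul' := fun r x => prS_smul h 𝔐.F 𝔐.toPush n (trOpen (lv J) V) r x }
    hπ := fun n => LinearMap.ext fun x => tr_prS h 𝔐.F 𝔐.toPush n (trOpen (lv J) V) x
    hinj := fun x hx => prS_ext h 𝔐.F 𝔐.toPush x 0 fun n => (hx n).trans (map_zero _).symm
    hlift := fun s hs => exists_prS h 𝔐.F 𝔐.toPush (trOpen (lv J) V) s hs }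

section Present

variable {R : Type u} [CommRing R] {I : Ideal R} [Algebra R A]
  (h' : (spf (I.map (algebraMap R A))).IsFormal)
  (hR : AdicRing.IsBase R I) (hA : AdicRing.TopFiniteType R I A)
  {𝔉 : FSch.ModF (spf (I.map (algebraMap R A))) h'} (h𝔉 : FSch.IsCohF (spf (I.map (algebraMap R A))) h' 𝔉)

include hR hA h𝔉 in
/-- A local presentation gives generators and relations for the levels' limit over a basic open. -/
theorem pres_toReal (f : A) {ι κ : Type u} [Fintype ι] [Fintype κ]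
    {x : ι → Sec h' 𝔉 (trOpen (lv (I.map (algebraMap R A))) (PrimeSpectrum.basicOpen f))}
    {r : κ → ι → OSec h' (trOpen (lv (I.map (algebraMap R A))) (PrimeSpectrum.basicOpen f))}
    (hx : Gen x) (hr : H15Site.LocFP.Rel x r) :
    (∀ y : Sec h' ((pullSys h' 𝔉).realMod h') (trOpen (lv (I.map (algebraMap R A))) (PrimeSpectrum.basicOpen f)),
      ∃ c : ι → OSec h' (trOpen (lv (I.map (algebraMap R A))) (PrimeSpectrum.basicOpen f)),
        y = ∑ i, c i • secMap (toReal h' 𝔉) _ (x i)) ∧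
    ∀ c : ι → OSec h' (trOpen (lv (I.map (algebraMap R A))) (PrimeSpectrum.basicOpen f)),
      ∑ i, c i • secMap (toReal h' 𝔉) _ (x i) = 0 → ∃ d : κ → OSec h' _, ∀ i, c i = ∑ k, d k * r k i := by
  classical
  let J := I.map (algebraMap R A)
  let V : (Spec (CommRingCat.of A)).Opens := PrimeSpectrum.basicOpen f
  have hV : IsAffineOpen V := isAffineOpen_basic f
  let B := trOpen (lv J) V
  have hJ : J.FG := (H24Val.fg_of_isBase hR).map _
  have hq := isQCoh_pullSys h' h𝔉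
  haveI := isAdicComplete_JB J h' hV hJ
  letI := lvMod J h' (pullSys h' 𝔉).F B
  let S := secSys J h' hV hJ (pullSys h' 𝔉) hq
  let x' : ι → Sec h' ((pullSys h' 𝔉).realMod h') B := fun i => secMap (toReal h' 𝔉) B (x i)
  have hlev : ∀ n, (∀ m : Γ((pullSys h' 𝔉).F n, (spf J).lvU h' n B),
        ∃ c : ι → Γ((spf J).X n, (spf J).lvU h' n B),
          m = ∑ i, c i • prS h' (pullSys h' 𝔉).F (pullSys h' 𝔉).toPush n B (x' i)) ∧
      ∀ c : ι → Γ((spf J).X n, (spf J).lvU h' n B),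
        ∑ i, c i • prS h' (pullSys h' 𝔉).F (pullSys h' 𝔉).toPush n B (x' i) = 0 →
          ∃ d : κ → Γ((spf J).X n, (spf J).lvU h' n B), ∀ i, c i = ∑ k, d k * oP h' n B (r k i) := fun n => by
    obtain ⟨h1, h2⟩ := gen_rel_unitSec (FSch.levelMor (spf J) h' n) 𝔉 hx hr
    simp only [x', prS_toReal]
    exact ⟨exists_comb_of_gen (isAffineOpen_lvU_trOpen J h' hV n) (hq n) _ h1,
      exists_comb_of_rel (isAffineOpen_lvU_trOpen J h' hV n) _ _ h2⟩
  have hsum : ∀ n (c : ι → OSec h' B), S.π n (∑ i, c i • x' i) =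
      ∑ i, oP h' n B (c i) • prS h' (pullSys h' 𝔉).F (pullSys h' 𝔉).toPush n B (x' i) := fun n c =>
    (map_sum (prS h' (pullSys h' 𝔉).F (pullSys h' 𝔉).toPush n B) _ _).trans
      (Finset.sum_congr rfl fun i _ => prS_smul h' _ _ n B (c i) (x' i))
  refine ⟨fun y => ?_, fun c hc0 => ?_⟩
  · let e := Fintype.equivFin ι
    have hgen : ∀ n, LinearMap.range (S.π n ∘ₗ Fintype.linearCombination (OSec h' B) (x' ∘ e.symm)) = ⊤ := by
      intro n
      rw [eq_top_iff]
      intro m _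
      obtain ⟨c, rfl⟩ := (hlev n).1 m
      choose c' hc' using fun i => surjective_oP_trOpen J h' hV n (c i)
      refine ⟨fun i => c' (e.symm i), ?_⟩
      rw [LinearMap.comp_apply, Fintype.linearCombination_apply]
      refine (congrArg (S.π n) (e.symm.sum_comp fun i => c' i • x' i)).trans ((hsum n c').trans ?_)
      exact Finset.sum_congr rfl fun i _ => congrArg
        (· • prS h' (pullSys h' 𝔉).F (pullSys h' 𝔉).toPush n B (x' i)) (hc' i)
    obtain ⟨c, hc⟩ : ∃ c, S.π 0 (Fintype.linearCombination (OSec h' B) (x' ∘ e.symm) c) = S.π 0 y :=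
      LinearMap.mem_range.1 (hgen 0 ▸ Submodule.mem_top)
    obtain ⟨d, -, hd⟩ := S.exists_comb (x' ∘ e.symm) hgen
      (y := y - Fintype.linearCombination (OSec h' B) (x' ∘ e.symm) c) (n := 0) (by rw [map_sub, hc, sub_self])
    refine ⟨fun i => (c + d) (e i), ?_⟩
    rw [sub_eq_iff_eq_add, Fintype.linearCombination_apply, ← Finset.sum_add_distrib] at hd
    rw [hd]
    refine Eq.trans ?_ (e.symm.sum_comp fun i => (c + d) (e i) • x' i)
    refine Finset.sum_congr rfl fun i _ => ?_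
    rw [Equiv.apply_symm_apply, Pi.add_apply, add_smul, Function.comp_apply, add_comm]
  · let S' : Submodule (OSec h' B) (ι → OSec h' B) := Submodule.span _ (Set.range r)
    suffices hm : c ∈ S' by
      obtain ⟨d, hd⟩ := (Submodule.mem_span_range_iff_exists_fun _).1 hm
      exact ⟨d, fun i => by rw [← hd]; simp [Finset.sum_apply]⟩
    haveI : IsAdicComplete (JB J h' V) ((ι → OSec h' B) ⧸ S') := isAdicComplete_quot h' hR hA f S'
    refine (Submodule.Quotient.mk_eq_zero S').1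
      (IsHausdorff.haus (I := JB J h' V) ‹IsAdicComplete (JB J h' V) _›.toIsHausdorff _ fun n => ?_)
    rw [SModEq.zero]
    rcases n with _ | n
    · simp
    · obtain ⟨d, hd⟩ := (hlev n).2 (fun i => oP h' n B (c i)) (by
        rw [← hsum, hc0, map_zero])
      choose d' hd' using fun k => surjective_oP_trOpen J h' hV n (d k)
      have hmem : ∀ i, c i - ∑ k, d' k * r k i ∈ (JB J h' V) ^ (n + 1) := fun i => by
        rw [← ker_oP_trOpen J h' hV hJ, RingHom.mem_ker, map_sub, map_sum, sub_eq_zero, hd i]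
        exact Finset.sum_congr rfl fun k _ => by rw [map_mul, hd']
      have hq' : Submodule.Quotient.mk (p := S') c = Submodule.Quotient.mk (c - ∑ k, d' k • r k) :=
        (Submodule.Quotient.eq S').2 (by
          rw [sub_sub_cancel]
          exact Submodule.sum_mem _ fun k _ => S'.smul_mem _ (Submodule.subset_span ⟨k, rfl⟩))
      rw [hq', ← Submodule.mkQ_apply, pi_eq_sum_univ' (c - ∑ k, d' k • r k), map_sum]
      refine Submodule.sum_mem _ fun i _ => ?_
      rw [map_smul]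
      refine Submodule.smul_mem_smul ?_ Submodule.mem_top
      simpa [Finset.sum_apply] using hmem i

end Present

end Groth.Agent.H24FSpf
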