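import Groth.Agent.H24FSpf.Sections
import Groth.Agent.H24FSch.Basic
import Mathlib.AlgebraicGeometry.Modules.Tilde

/-!
# Completed modules on the formal spectrum and their morphisms
-/

set_option autoImplicit false
set_option linter.style.haveILetI false
set_option linter.unusedSectionVars false
universe u

open CategoryTheory CategoryTheory.Limits AlgebraicGeometry TopologicalSpace Opposite

attribute [-instance] CategoryTheory.catToReflQuiver

namespace Groth.Agent.H24FSpf

open H15Site.ModTensor H15Site.ModRel H15Site.LocGen H15Site.LocPres H24FMod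

theorem bijective_toOpen_top {R : CommRingCat.{u}} (M : ModuleCat.{u} R) :
    Function.Bijective (tilde.toOpen M ⊤).hom :=
  (ConcreteCategory.isIso_iff_bijective (tilde.toOpen M ⊤)).1 inferInstance

theorem exists_pow_smul_eq {R : CommRingCat.{u}} (M : ModuleCat.{u} R) (f : R)
    (m : Γ(tilde M, PrimeSpectrum.basicOpen f)) :
    ∃ (m₀ : M) (k : ℕ), f ^ k • m = (tilde.toOpen M (PrimeSpectrum.basicOpen f)).hom m₀ := by
  obtain ⟨⟨m₀, s, k, hk⟩, hs⟩ := IsLocalizedModule.surj (Submonoid.powers f)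
    (tilde.toOpen M (PrimeSpectrum.basicOpen f)).hom m
  subst hk
  exact ⟨m₀, k, hs⟩

theorem isUnit_res {R : CommRingCat.{u}} (f : R) :
    IsUnit ((Spec R).presheaf.map (PrimeSpectrum.basicOpen f : (Spec R).Opens).leTop.op
      ((Scheme.ΓSpecIso R).inv f)) := by
  have hu := RingedSpace.isUnit_res_basicOpen (Spec R).toRingedSpace ((Scheme.ΓSpecIso R).inv f)
  have hm := hu.map ((Spec R).presheaf.map (homOfLE (basicOpen_eq_of_affine f).ge).op).hom
  exact (congr($((Spec R).presheaf.map_comp (Opens.leTop _).op (homOfLE (basicOpen_eq_of_affine f).ge).op)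
    ((Scheme.ΓSpecIso R).inv f)) ▸ hm :)

variable {A : Type u} [CommRing A]

/-- The scalars on an open of the spectrum. -/
noncomputable def sA (V : (Spec (CommRingCat.of A)).Opens) : A →+* Γ(Spec (CommRingCat.of A), V) :=
  ((Spec (CommRingCat.of A)).presheaf.map V.leTop.op).hom.comp (Scheme.ΓSpecIso (CommRingCat.of A)).inv.hom

theorem isAffineOpen_basic (f : A) :
    IsAffineOpen (X := Spec (CommRingCat.of A)) (PrimeSpectrum.basicOpen f) := by
  have h := (isAffineOpen_top (Spec (CommRingCat.of A))).basicOpen ((Scheme.ΓSpecIso (CommRingCat.of A)).inv f)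
  rwa [basicOpen_eq_of_affine] at h

variable (J : Ideal A)

/-- The completion system of the spectrum along an ideal. -/
noncomputable abbrev spf : FSch.Sys.{u} :=
  FSch.completionAlong (Spec (CommRingCat.of A)) (FSch.idealSpec A J)

/-- The maps of the levels to the spectrum. -/
noncomputable abbrev lv (n : ℕ) : (spf J).X n ⟶ Spec (CommRingCat.of A) :=
  FSch.completionToX (Spec (CommRingCat.of A)) (FSch.idealSpec A J) n

theorem lv_comm (n : ℕ) : (spf J).ι n ≫ lv J (n + 1) = lv J n :=
  FSch.completionToX_comm _ _ n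

theorem ker_lv (n : ℕ) {V : (Spec (CommRingCat.of A)).Opens} (hV : IsAffineOpen V) :
    RingHom.ker ((lv J n).app V).hom = (J.map (sA V)) ^ (n + 1) := by
  refine ((FSch.idealSpec A J ^ (n + 1)).ker_subschemeι_app ⟨V, hV⟩).trans ?_
  rw [Scheme.IdealSheafData.ideal_pow, Pi.pow_apply,
    ← (FSch.idealSpec A J).map_ideal (show (⟨V, hV⟩ : (Spec (CommRingCat.of A)).affineOpens) ≤
      ⟨⊤, isAffineOpen_top _⟩ from (le_top : V ≤ ⊤)), H24FSch.idealSpec_ideal_top, Ideal.map_map]
  rfl

theorem isUnit_sA (f : A) : IsUnit (sA (PrimeSpectrum.basicOpen f) f) :=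
  isUnit_res (R := CommRingCat.of A) f

variable (M N : ModuleCat.{u} A)

/-- An element of a module as a section over an open. -/
noncomputable def toSec (V : (Spec (CommRingCat.of A)).Opens) (m : M) :
    Γ(tilde (R := CommRingCat.of A) M, V) :=
  (tilde.toOpen (R := CommRingCat.of A) M V).hom m

theorem toSec_res {V W : (Spec (CommRingCat.of A)).Opens} (l : W ≤ V) (m : M) :
    (tilde (R := CommRingCat.of A) M).presheaf.map (homOfLE l).op (toSec M V m) = toSec M W m :=
  congr($(tilde.toOpen_res (R := CommRingCat.of A) M V W (homOfLE l)) m)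

theorem toSec_add (V : (Spec (CommRingCat.of A)).Opens) (m m' : M) :
    toSec M V (m + m') = toSec M V m + toSec M V m' :=
  map_add (tilde.toOpen (R := CommRingCat.of A) M V).hom m m'

theorem toSec_smul (V : (Spec (CommRingCat.of A)).Opens) (a : A) (m : M) :
    toSec M V (a • m) = sA V a • toSec M V m :=
  (map_smul (tilde.toOpen (R := CommRingCat.of A) M V).hom a m).trans
    (Scheme.Modules.smul_Spec_def (R := CommRingCat.of A) a _)

theorem toSec_bijective : Function.Bijective (toSec M ⊤) :=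
  bijective_toOpen_top (R := CommRingCat.of A) M

theorem exists_pow_smul_eq_toSec (f : A) (m : Γ(tilde (R := CommRingCat.of A) M, PrimeSpectrum.basicOpen f)) :
    ∃ (m₀ : M) (k : ℕ), sA (PrimeSpectrum.basicOpen f) (f ^ k) • m = toSec M (PrimeSpectrum.basicOpen f) m₀ := by
  obtain ⟨m₀, k, hs⟩ := exists_pow_smul_eq (R := CommRingCat.of A) M f m
  exact ⟨m₀, k, (Scheme.Modules.smul_Spec_def (R := CommRingCat.of A) (f ^ k) m).symm.trans hs⟩

variable (h : (spf J).IsFormal)

/-- The system of a module. -/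
noncomputable abbrev mSys : FSch.ModSys (spf J) :=
  pbSys (lv J) (FSch.complTransIso (FSch.idealSpec A J)) (tilde (R := CommRingCat.of A) M)

/-- The section of the completed module given by an element. -/
noncomputable def el (V : (Spec (CommRingCat.of A)).Opens) (m : M) :
    Sec h ((mSys J M).realMod h) (trOpen (lv J) V) :=
  cst h (lv J) (lv_comm J) (FSch.complTransIso (FSch.idealSpec A J)) (fun _ => rfl) (toSec M V m)

theorem prS_el (V : (Spec (CommRingCat.of A)).Opens) (m : M) (n : ℕ) :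
    prS h (mSys J M).F (mSys J M).toPush n (trOpen (lv J) V) (el J M h V m) =
      κ h (lv J) (lv_comm J) (FSch.complTransIso (FSch.idealSpec A J)) _ V n (toSec M V m) :=
  prS_cst h (lv J) (lv_comm J) _ (fun _ => rfl) _ n

theorem el_add (V : (Spec (CommRingCat.of A)).Opens) (m m' : M) :
    el J M h V (m + m') = el J M h V m + el J M h V m' :=
  prS_ext h _ _ _ _ fun n => (prS_el J M h V _ n).trans
    ((congrArg _ (toSec_add M V m m')).trans ((map_add _ _ _).trans
      ((congrArg₂ (· + ·) (prS_el J M h V m n).symm (prS_el J M h V m' n).symm).trans (map_add _ _ _).symm)))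

theorem exists_el_smul (a : A) (V : (Spec (CommRingCat.of A)).Opens) :
    ∃ r : OSec h (trOpen (lv J) V), (∀ n, oP h n (trOpen (lv J) V) r = ρ h (lv J) (lv_comm J) n V (sA V a)) ∧
      ∀ (L : ModuleCat.{u} A) (m : L), el J L h V (a • m) = r • el J L h V m := by
  obtain ⟨r, hr⟩ := exists_ιO h (lv J) (lv_comm J) V (sA V a)
  refine ⟨r, hr, fun L m => prS_ext h _ _ _ _ fun n => ?_⟩
  exact (prS_el J L h V _ n).trans ((congrArg _ (toSec_smul L V a m)).trans
    ((κ_smul h (lv J) (lv_comm J) _ _ n V _ _).trans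
      ((congrArg₂ (· • ·) (hr n).symm (prS_el J L h V m n).symm).trans (prS_smul h _ _ n _ r _).symm)))

theorem el_res {V W : (Spec (CommRingCat.of A)).Opens} (l : W ≤ V) (m : M) :
    rs ((forg ((spf J).Osh h)).obj ((mSys J M).realMod h))
        (homOfLE (fun _ hx => l hx : trOpen (lv J) W ≤ trOpen (lv J) V)).op (el J M h V m) = el J M h W m :=
  (cst_res h (lv J) (lv_comm J) _ (fun _ => rfl) l (toSec M V m)).trans (congrArg _ (toSec_res M l m))

instance (n : ℕ) : IsClosedImmersion (lv J n) :=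
  inferInstanceAs (IsClosedImmersion (FSch.idealSpec A J ^ (n + 1)).subschemeι)

theorem el_bijective [IsAdicComplete J M] : Function.Bijective (el J M h ⊤) := by
  have hQ := κ_isQuot h (lv J) (lv_comm J) (FSch.complTransIso (FSch.idealSpec A J)) (J.map (sA ⊤))
    (fun n => ker_lv J n (isAffineOpen_top _)) (isAffineOpen_top _)
    (inferInstance : (tilde (R := CommRingCat.of A) M).IsQuasicoherent)
  have hs : Function.Surjective (sA (⊤ : (Spec (CommRingCat.of A)).Opens)) := by
    intro r
    refine ⟨(Scheme.ΓSpecIso (CommRingCat.of A)).hom r, ?_⟩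
    show (Spec (CommRingCat.of A)).presheaf.map (Opens.leTop _).op
      ((Scheme.ΓSpecIso (CommRingCat.of A)).inv ((Scheme.ΓSpecIso (CommRingCat.of A)).hom r)) = r
    rw [show (Opens.leTop (⊤ : (Spec (CommRingCat.of A)).Opens)).op = 𝟙 _ from Subsingleton.elim _ _,
      CategoryTheory.Functor.map_id]
    exact congr($((Scheme.ΓSpecIso (CommRingCat.of A)).hom_inv_id) r)
  have hmem : ∀ (n : ℕ) (m : M), toSec M ⊤ m ∈ (J.map (sA ⊤)) ^ n •
      (⊤ : Submodule Γ(Spec (CommRingCat.of A), (⊤ : (Spec (CommRingCat.of A)).Opens)) _) ↔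
        m ∈ J ^ n • (⊤ : Submodule A M) := by
    intro n m
    refine ⟨fun hm => ?_, fun hm => ?_⟩
    · suffices H : ∀ x ∈ (J.map (sA ⊤)) ^ n • (⊤ : Submodule Γ(Spec (CommRingCat.of A), ⊤)
          Γ(tilde (R := CommRingCat.of A) M, ⊤)), ∀ m, toSec M ⊤ m = x → m ∈ J ^ n • (⊤ : Submodule A M) from
        H _ hm m rfl
      intro x hx
      refine Submodule.smul_induction_on (p := fun x => ∀ m, toSec M ⊤ m = x → m ∈ J ^ n • (⊤ : Submodule A M))
        hx (fun r hr y _ m hm => ?_) fun p q hp hq m hm => ?_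
      · rw [← Ideal.map_pow, Ideal.mem_map_iff_of_surjective _ hs] at hr
        obtain ⟨a, ha, rfl⟩ := hr
        obtain ⟨y, rfl⟩ := (toSec_bijective M).2 y
        rw [← toSec_smul] at hm
        rw [(toSec_bijective M).1 hm]
        exact Submodule.smul_mem_smul ha trivial
      · obtain ⟨m₁, rfl⟩ := (toSec_bijective M).2 p
        obtain ⟨m₂, rfl⟩ := (toSec_bijective M).2 q
        rw [← toSec_add] at hm
        rw [(toSec_bijective M).1 hm]
        exact add_mem (hp m₁ rfl) (hq m₂ rfl)
    · refine Submodule.smul_induction_on (p := fun m => toSec M ⊤ m ∈ (J.map (sA ⊤)) ^ n •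
        (⊤ : Submodule Γ(Spec (CommRingCat.of A), ⊤) _)) hm (fun a ha y _ => ?_) fun p q hp hq => ?_
      · rw [toSec_smul, ← Ideal.map_pow]
        exact Submodule.smul_mem_smul (Ideal.mem_map_of_mem _ ha) trivial
      · rw [toSec_add]
        exact add_mem hp hq
  refine ⟨fun m m' e => ?_, fun y => ?_⟩
  · rw [← sub_eq_zero]
    refine IsHausdorff.haus (I := J) inferInstance _ fun n => ?_
    rw [SModEq.zero]
    refine Submodule.smul_mono (Ideal.pow_le_pow_right n.le_succ) le_rfl ((hmem (n + 1) _).1 (((hQ n).2 _).1 ?_))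
    have hn := congrArg (prS h (mSys J M).F (mSys J M).toPush n (trOpen (lv J) ⊤)) e
    rw [prS_el, prS_el] at hn
    have h1 : toSec M ⊤ (m - m') = toSec M ⊤ m - toSec M ⊤ m' :=
      map_sub (tilde.toOpen (R := CommRingCat.of A) M ⊤).hom m m'
    rw [h1, map_sub, hn, sub_self]
  · obtain ⟨b, hb⟩ := exists_rep h (lv J) (lv_comm J) (FSch.complTransIso (FSch.idealSpec A J)) (fun _ => rfl)
      (J.map (sA ⊤)) (fun n => ker_lv J n (isAffineOpen_top _)) (isAffineOpen_top _)
      (inferInstance : (tilde (R := CommRingCat.of A) M).IsQuasicoherent) y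
    choose m hm using fun n => (toSec_bijective M).2 (b n)
    have hcauchy : ∀ {i j : ℕ}, i ≤ j → m i ≡ m j [SMOD (J ^ i • (⊤ : Submodule A M))] := by
      intro i j hij
      rw [SModEq.sub_mem, ← hmem]
      have h1 : toSec M ⊤ (m i - m j) = toSec M ⊤ (m i) - toSec M ⊤ (m j) :=
        map_sub (tilde.toOpen (R := CommRingCat.of A) M ⊤).hom (m i) (m j)
      rw [h1, hm, hm, ← SModEq.sub_mem]
      exact b.property hij
    obtain ⟨L, hL⟩ := IsPrecomplete.prec (I := J) inferInstance hcauchy
    refine ⟨L, prS_ext h _ _ _ _ fun n => (prS_el J M h ⊤ L n).trans (Eq.trans ?_ (hb n))⟩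
    refine sub_eq_zero.1 ((map_sub _ _ _).symm.trans (((hQ n).2 _).2 ?_))
    have h1 : toSec M ⊤ (L - m (n + 1)) = toSec M ⊤ L - toSec M ⊤ (m (n + 1)) :=
      map_sub (tilde.toOpen (R := CommRingCat.of A) M ⊤).hom L (m (n + 1))
    rw [← hm, ← h1, hmem, ← SModEq.sub_mem]
    exact (hL (n + 1)).symm

theorem exists_basic (U : ((spf J).X 0).Opens) :
    ∃ S ∈ Opens.grothendieckTopology ((spf J).X 0) U, ∀ ⦃W⦄ (g : W ⟶ U), S g →
      ∃ f : A, W ≤ trOpen (lv J) (PrimeSpectrum.basicOpen f) ∧ trOpen (lv J) (PrimeSpectrum.basicOpen f) ≤ U := by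
  let S : Sieve U :=
    { arrows := fun W _ => ∃ f : A, W ≤ trOpen (lv J) (PrimeSpectrum.basicOpen f) ∧
        trOpen (lv J) (PrimeSpectrum.basicOpen f) ≤ U
      downward_closed := fun {W W'} _ hh g => by
        obtain ⟨f, h1, h2⟩ := hh
        exact ⟨f, (leOfHom g).trans h1, h2⟩ }
  refine ⟨S, fun x hx => ?_, fun W g hg => hg⟩
  obtain ⟨O, hO, hOU⟩ := ((lv J 0).isClosedEmbedding.isInducing.isOpen_iff).1 U.isOpen
  obtain ⟨B, ⟨f, rfl⟩, hxB, hle⟩ := PrimeSpectrum.isTopologicalBasis_basic_opens.exists_subset_of_mem_open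
    (show (lv J 0) x ∈ O by rw [← Set.mem_preimage, hOU]; exact hx) hO
  have hle' : trOpen (lv J) (PrimeSpectrum.basicOpen f) ≤ U := fun z hz => by
    show z ∈ (U : Set _)
    rw [← hOU]
    exact hle hz
  exact ⟨trOpen (lv J) (PrimeSpectrum.basicOpen f), homOfLE hle', ⟨f, le_rfl, hle'⟩, hxB⟩

variable {G' : ∀ k, ((spf J).X k).Modules}
  {t : ∀ k, G' (k + 1) ⟶ (Scheme.Modules.pushforward ((spf J).ι k)).obj (G' k)}

/-- Morphisms out of a completed module are determined on its elements. -/
theorem hom_ext_el (hJ : J.FG) (ψ ψ' : (mSys J M).realMod h ⟶ FSch.realLim (spf J) h G' t)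
    (H : ∀ m : M, secMap ψ (trOpen (lv J) ⊤) (el J M h ⊤ m) = secMap ψ' (trOpen (lv J) ⊤) (el J M h ⊤ m)) :
    ψ = ψ' := by
  refine hom_ext_sec fun U y => ?_
  obtain ⟨R, hR, hR'⟩ := exists_basic J U
  refine separated_forg _ (X := op U) R hR _ _ fun W q hq => ?_
  obtain ⟨f, hW, hU⟩ := hR' q hq
  set V : (Spec (CommRingCat.of A)).Opens := PrimeSpectrum.basicOpen f with hVdef
  have hV : IsAffineOpen V := isAffineOpen_basic f
  have Hel : ∀ m : M, secMap ψ (trOpen (lv J) V) (el J M h V m) = secMap ψ' (trOpen (lv J) V) (el J M h V m) := by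
    intro m
    rw [← el_res J M h (le_top : V ≤ ⊤) m]
    exact (rs_app ψ.val _ _).trans ((congrArg _ (H m)).trans (rs_app ψ'.val _ _).symm)
  have key : ∀ y, secMap ψ (trOpen (lv J) V) y = secMap ψ' (trOpen (lv J) V) y := by
    refine fun y => prS_ext h _ _ _ _ fun n => ?_
    refine prS_hom_ext h (lv J) (lv_comm J) _ (fun _ => rfl) (J.map (sA V)) (fun n => ker_lv J n hV) hV
      (inferInstance : (tilde (R := CommRingCat.of A) M).IsQuasicoherent) ψ (hJ.map _) ψ' n (fun m => ?_) y
    obtain ⟨m₀, k, hm⟩ := exists_pow_smul_eq_toSec M f m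
    obtain ⟨r, hr⟩ := exists_ιO h (lv J) (lv_comm J) V (sA V (f ^ k))
    have hrm : r • cst h (lv J) (lv_comm J) (FSch.complTransIso (FSch.idealSpec A J)) (fun _ => rfl) m =
        el J M h V m₀ :=
      prS_ext h _ _ _ _ fun j => (prS_smul h _ _ j _ r _).trans
        ((congrArg₂ (· • ·) (hr j) (prS_cst h (lv J) (lv_comm J) _ (fun _ => rfl) m j)).trans
          ((κ_smul h (lv J) (lv_comm J) _ _ j V _ m).symm.trans
            ((congrArg _ hm).trans (prS_el J M h V m₀ j).symm)))
    have e := congrArg (prS h G' t n (trOpen (lv J) V)) (Hel m₀)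
    rw [← hrm] at e
    have eψ : ∀ φ : (mSys J M).realMod h ⟶ FSch.realLim (spf J) h G' t,
        prS h G' t n (trOpen (lv J) V) (secMap φ (trOpen (lv J) V)
          (r • cst h (lv J) (lv_comm J) (FSch.complTransIso (FSch.idealSpec A J)) (fun _ => rfl) m)) =
        oP h n _ r • prS h G' t n (trOpen (lv J) V) (secMap φ (trOpen (lv J) V)
          (cst h (lv J) (lv_comm J) (FSch.complTransIso (FSch.idealSpec A J)) (fun _ => rfl) m)) := fun φ =>
      (congrArg _ ((φ.val.app (op (trOpen (lv J) V))).hom.map_smul r _)).trans (prS_smul h G' t n _ r _)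
    rw [eψ, eψ] at e
    have hu : IsUnit (oP h n (trOpen (lv J) V) r) := by
      rw [hr, map_pow]
      exact ((isUnit_sA f).pow k).map _
    exact hu.smul_left_cancel.1 e
  rw [show q.op = (homOfLE hU).op ≫ (homOfLE hW).op from Subsingleton.elim _ _, ← rs_rs, ← rs_rs]
  exact congrArg _ ((rs_app ψ.val (homOfLE hU).op y).symm.trans ((key _).trans (rs_app ψ'.val (homOfLE hU).op y)))

theorem realModMap_el (u : M ⟶ N) (m : M) :
    secMap (FSch.ModSys.realModMap h (FSch.complModMap (FSch.idealSpec A J) ((tilde.functor (CommRingCat.of A)).map u)))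
      (trOpen (lv J) ⊤) (el J M h ⊤ m) = el J N h ⊤ (u m) := by
  refine prS_ext h _ _ _ _ fun n => ?_
  refine (prS_realModMap h (lv J) (FSch.complTransIso (FSch.idealSpec A J)) _ n _).trans ?_
  refine (congrArg _ (prS_el J M h ⊤ m n)).trans ?_
  refine (κ_natural h (lv J) (lv_comm J) _ _ _ _ n _ _).trans (Eq.trans (congrArg _ ?_) (prS_el J N h ⊤ _ n).symm)
  exact congr($(tilde.toOpen_map_app (R := CommRingCat.of A) u ⊤) m)

/-- Completion is fully faithful on complete modules. -/
theorem bijective_realModMap_complModMap (hJ : J.FG) [IsAdicComplete J N] :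
    Function.Bijective (fun u : M ⟶ N =>
      FSch.ModSys.realModMap h (FSch.complModMap (FSch.idealSpec A J) ((tilde.functor (CommRingCat.of A)).map u))) := by
  refine ⟨fun u v huv => ModuleCat.hom_ext (LinearMap.ext fun m => (el_bijective J N h).1 ?_), fun ψ => ?_⟩
  · rw [← realModMap_el, ← realModMap_el]
    exact congrArg (fun k => secMap k (trOpen (lv J) ⊤) (el J M h ⊤ m)) huv
  · let φ : (mSys J M).realMod h ⟶ (mSys J N).realMod h := ψ
    choose g hg using fun m => (el_bijective J N h).2 (secMap φ (trOpen (lv J) ⊤) (el J M h ⊤ m))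
    let u : M ⟶ N := ModuleCat.ofHom
      { toFun := g
        map_add' := fun m m' => (el_bijective J N h).1 (by rw [hg, el_add, map_add, el_add, hg, hg])
        map_smul' := fun a m => (el_bijective J N h).1 (by
          obtain ⟨r, -, hr⟩ := exists_el_smul J h a ⊤
          rw [hg, RingHom.id_apply, hr, hr, hg]
          exact (φ.val.app (op (trOpen (lv J) ⊤))).hom.map_smul r _) }
    exact ⟨u, hom_ext_el J M h hJ _ ψ fun m => (realModMap_el J M N h u m).trans (hg m)⟩

end Groth.Agent.H24FSpf
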