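import Groth.Agent.H24FSpf.Exact
import Groth.Agent.H24FSpf.Base

/-!
# Completion on the formal spectrum: zero composites, reflection of exactness
-/

set_option autoImplicit false
set_option linter.style.haveILetI false
set_option linter.unusedSectionVars false
universe u

open CategoryTheory CategoryTheory.Limits AlgebraicGeometry TopologicalSpace Opposite

attribute [-instance] CategoryTheory.catToReflQuiver

namespace Groth.Agent.H24FSpf

open H15Site.ModTensor H15Site.ModRel H15Site.LocGen H15Site.LocPres H24FMod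

variable {A : Type u} [CommRing A] (J : Ideal A) (h : (spf J).IsFormal)

theorem secMap_dMap_el {M N : ModuleCat.{u} A} (u : M ⟶ N) (m : M) :
    secMap (dMap J h u) (trOpen (lv J) ⊤) (el J M h ⊤ m) = el J N h ⊤ (u m) :=
  realModMap_el J M N h u m

theorem dMap_comp_eq_zero (hJ : J.FG) {M N P : ModuleCat.{u} A} (u : M ⟶ N) (v : N ⟶ P) (e : u ≫ v = 0) :
    dMap J h u ≫ dMap J h v = 0 := by
  refine hom_ext_el J M h hJ _ _ fun m => ?_
  show secMap (dMap J h v) _ (secMap (dMap J h u) _ (el J M h ⊤ m)) = 0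
  rw [secMap_dMap_el, secMap_dMap_el, show v (u m) = 0 from congr($e m)]
  exact el_zero J h P ⊤

theorem eq_zero_of_secMap {M N : ModuleCat.{u} A} [IsAdicComplete J N] (u : M ⟶ N)
    (e : ∀ m, secMap (dMap J h u) (trOpen (lv J) ⊤) (el J M h ⊤ m) = 0) : u = 0 :=
  ModuleCat.hom_ext (LinearMap.ext fun m => (el_bijective J N h).1
    ((secMap_dMap_el J h u m).symm.trans ((e m).trans (el_zero J h N ⊤).symm)))

/-- Completion of complete modules reflects short exact sequences. -/
theorem shortExact_of_dMap (hJ : J.FG) {M₁ M₂ M₃ : ModuleCat.{u} A} [IsAdicComplete J M₁] [IsAdicComplete J M₂]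
    [IsAdicComplete J M₃] (u : M₁ ⟶ M₂) (v : M₂ ⟶ M₃)
    [IsAdicComplete J (M₃ ⧸ LinearMap.range v.hom)]
    (w : dMap J h u ≫ dMap J h v = 0) (hs : (ShortComplex.mk _ _ w).ShortExact) :
    ∃ w' : u ≫ v = 0, (ShortComplex.mk u v w').ShortExact := by
  have hz : ∀ m, el J M₃ h ⊤ (v (u m)) = 0 := by
    intro m
    rw [← secMap_dMap_el, ← secMap_dMap_el]
    exact congrArg (fun k => secMap k (trOpen (lv J) ⊤) (el J M₁ h ⊤ m)) w
  have w' : u ≫ v = 0 := ModuleCat.hom_ext (LinearMap.ext fun m =>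
    (el_bijective J M₃ h).1 ((hz m).trans (el_zero J h M₃ ⊤).symm))
  haveI : Mono (dMap J h u) := hs.mono_f
  haveI : Epi (dMap J h v) := hs.epi_g
  have hu : Function.Injective u := fun m m' e => (el_bijective J M₁ h).1
    (injective_app (dMap J h u) (op (trOpen (lv J) ⊤)) (by
      show secMap (dMap J h u) _ _ = secMap (dMap J h u) _ _
      rw [secMap_dMap_el, secMap_dMap_el, e]))
  have hexact : Function.Exact u v := by
    intro m
    refine ⟨fun hm => ?_, ?_⟩
    · obtain ⟨l, hl⟩ := KernelFork.IsLimit.lift' hs.fIsKernel (kernel.ι (dMap J h v)) (kernel.condition _)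
      obtain ⟨z, hz'⟩ := exists_kerSec (dMap J h v) (W := op (trOpen (lv J) ⊤)) (el J M₂ h ⊤ m) (by
        show secMap (dMap J h v) _ _ = 0
        rw [secMap_dMap_el, hm]
        exact el_zero J h M₃ ⊤)
      obtain ⟨m', hm'⟩ := (el_bijective J M₁ h).2 (secMap l (trOpen (lv J) ⊤) z)
      refine ⟨m', (el_bijective J M₂ h).1 ?_⟩
      rw [← secMap_dMap_el, hm']
      exact (congrArg (fun k => secMap k (trOpen (lv J) ⊤) z) hl).trans hz'
    · rintro ⟨y, rfl⟩
      exact congr($w' y)
  have hv : Function.Surjective v := by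
    let q : M₃ ⟶ ModuleCat.of A (M₃ ⧸ LinearMap.range v.hom) := ModuleCat.ofHom (Submodule.mkQ _)
    have hvq : v ≫ q = 0 := ModuleCat.hom_ext (LinearMap.ext fun m =>
      (Submodule.Quotient.mk_eq_zero _).2 (LinearMap.mem_range_self v.hom m))
    have hq : dMap J h q = 0 := zero_of_epi_comp (dMap J h v) (dMap_comp_eq_zero J h hJ v q hvq)
    have hq0 : q = 0 := eq_zero_of_secMap J h q fun m =>
      congrArg (fun k => secMap k (trOpen (lv J) ⊤) (el J M₃ h ⊤ m)) hq
    intro y
    exact LinearMap.mem_range.1 ((Submodule.Quotient.mk_eq_zero _).1 congr($hq0 y))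
  exact ⟨w', { exact := (ShortComplex.ShortExact.moduleCat_exact_iff_function_exact _).2 hexact
               mono_f := (ModuleCat.mono_iff_injective _).2 hu
               epi_g := (ModuleCat.epi_iff_surjective _).2 hv }⟩

theorem exists_artinRees {R : Type u} [CommRing R] {I : Ideal R} [Algebra R A] (hR : AdicRing.IsBase R I)
    (hA : AdicRing.TopFiniteType R I A) {S : ShortComplex (ModuleCat.{u} A)} (hS : S.ShortExact)
    [Module.Finite A S.X₂] :
    ∃ n₀ : ℕ, ∀ p : ℕ, ∀ x : S.X₁, S.f x ∈ (I.map (algebraMap R A)) ^ (p + n₀) • (⊤ : Submodule A S.X₂) →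
      x ∈ (I.map (algebraMap R A)) ^ p • (⊤ : Submodule A S.X₁) := by
  letI : Module R S.X₂ := Module.compHom S.X₂ (algebraMap R A)
  haveI : IsScalarTower R A S.X₂ := IsScalarTower.of_algebraMap_smul fun r m => rfl
  obtain ⟨n₀, hn₀⟩ := H24Val.exists_artinRees_topFinite (M := S.X₂) hR hA (LinearMap.range S.f.hom)
  refine ⟨n₀, fun p x hx => ?_⟩
  have h1 : S.f x ∈ (I.map (algebraMap R A)) ^ p • LinearMap.range S.f.hom := by
    rw [← Ideal.map_pow, ← Submodule.restrictScalars_mem R, Submodule.restrictScalars_map_smul_eq]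
    refine hn₀ p ⟨?_, LinearMap.mem_range_self S.f.hom x⟩
    rw [← Ideal.map_pow, ← Submodule.restrictScalars_mem R, Submodule.restrictScalars_map_smul_eq,
      Submodule.restrictScalars_top] at hx
    exact hx
  rw [← Submodule.map_top, ← Submodule.map_smul''] at h1
  obtain ⟨y, hy, he⟩ := h1
  rwa [← (ModuleCat.mono_iff_injective _).1 hS.mono_f he]

end Groth.Agent.H24FSpf
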