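import Groth.Agent.H24FSpf.Hom
import Groth.Agent.H24FMod.Affine
import Groth.Agent.H24Val.Transfer
import Groth.Agent.H24Val.TruncFP

/-!
# Sections of the structure sheaf of the formal spectrum over affine traces
-/

set_option autoImplicit false
set_option linter.style.haveILetI false
set_option linter.unusedSectionVars false
universe u

open CategoryTheory CategoryTheory.Limits AlgebraicGeometry TopologicalSpace Opposite

attribute [-instance] CategoryTheory.catToReflQuiver

namespace Groth.Agent.H24FSpf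

open H15Site.ModTensor H15Site.ModRel H15Site.LocGen H15Site.LocPres H24FMod

variable {A : Type u} [CommRing A] (J : Ideal A) (h : (spf J).IsFormal)
  {V : (Spec (CommRingCat.of A)).Opens}

variable (V) in
/-- Functions on an open as functions on the completion. -/
noncomputable def ιH : Γ(Spec (CommRingCat.of A), V) →+* OSec h (trOpen (lv J) V) where
  toFun a := (exists_ιO h (lv J) (lv_comm J) V a).choose
  map_one' := oP_ext h _ _ fun n => by
    rw [(exists_ιO h (lv J) (lv_comm J) V 1).choose_spec, map_one, map_one]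
  map_mul' a b := oP_ext h _ _ fun n => by
    rw [(exists_ιO h (lv J) (lv_comm J) V (a * b)).choose_spec, map_mul, map_mul,
      (exists_ιO h (lv J) (lv_comm J) V a).choose_spec, (exists_ιO h (lv J) (lv_comm J) V b).choose_spec]
  map_zero' := oP_ext h _ _ fun n => by
    rw [(exists_ιO h (lv J) (lv_comm J) V 0).choose_spec, map_zero, map_zero]
  map_add' a b := oP_ext h _ _ fun n => by
    rw [(exists_ιO h (lv J) (lv_comm J) V (a + b)).choose_spec, map_add, map_add,
      (exists_ιO h (lv J) (lv_comm J) V a).choose_spec, (exists_ιO h (lv J) (lv_comm J) V b).choose_spec]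

theorem oP_ιH (n : ℕ) (a : Γ(Spec (CommRingCat.of A), V)) :
    oP h n (trOpen (lv J) V) (ιH J h V a) = ρ h (lv J) (lv_comm J) n V a :=
  (exists_ιO h (lv J) (lv_comm J) V a).choose_spec n

variable (hV : IsAffineOpen V)

include hV in
theorem surjective_ρ (n : ℕ) : Function.Surjective (ρ h (lv J) (lv_comm J) n V) :=
  surjective_appLE_of_eq (f := lv J n) hV _ (lvU_trOpen h (lv J) (lv_comm J) n V).ge

include hV in
theorem ker_ρ (n : ℕ) : RingHom.ker (ρ h (lv J) (lv_comm J) n V) = (J.map (sA V)) ^ (n + 1) := by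
  refine (ker_appLE_of_eq (f := lv J n) hV _ (lvU_trOpen h (lv J) (lv_comm J) n V).ge).trans ?_
  rw [Scheme.Hom.ker_apply]
  exact ker_lv J n hV

include hV in
theorem surjective_oP_trOpen (n : ℕ) : Function.Surjective (oP h n (trOpen (lv J) V)) := fun y => by
  obtain ⟨a, rfl⟩ := surjective_ρ J h hV n y
  exact ⟨ιH J h V a, oP_ιH J h n a⟩

/-- The ideal of definition on the functions of a trace. -/
noncomputable abbrev JB (V : (Spec (CommRingCat.of A)).Opens) : Ideal (OSec h (trOpen (lv J) V)) :=
  J.map ((ιH J h V).comp (sA V))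

/-- The levels as an adic system. -/
noncomputable def ringSys :
    letI := fun n => Module.compHom Γ((spf J).X n, (spf J).lvU h n (trOpen (lv J) V)) (ρ h (lv J) (lv_comm J) n V)
    letI := Module.compHom (OSec h (trOpen (lv J) V)) (ιH J h V)
    H24Adic.AdicSystem (J.map (sA V)) (fun n => Γ((spf J).X n, (spf J).lvU h n (trOpen (lv J) V)))
      (OSec h (trOpen (lv J) V)) :=
  letI := fun n => Module.compHom Γ((spf J).X n, (spf J).lvU h n (trOpen (lv J) V)) (ρ h (lv J) (lv_comm J) n V)
  letI := Module.compHom (OSec h (trOpen (lv J) V)) (ιH J h V)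
  { f := fun n =>
      { toFun := trO h n (trOpen (lv J) V)
        map_add' := map_add _
        map_smul' := fun a y => by
          show trO h n (trOpen (lv J) V) (ρ h (lv J) (lv_comm J) (n + 1) V a * y) = ρ h (lv J) (lv_comm J) n V a * _
          rw [map_mul, trO_ρ] }
    hf := fun n y => by
      obtain ⟨a, rfl⟩ := surjective_ρ J h hV n y
      exact ⟨_, trO_ρ h (lv J) (lv_comm J) n V a⟩
    hker := fun n => by
      refine le_antisymm (fun y hy => ?_) ?_
      · obtain ⟨a, rfl⟩ := surjective_ρ J h hV (n + 1) y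
        have ha : a ∈ (J.map (sA V)) ^ (n + 1) := by
          rw [← ker_ρ J h hV n, RingHom.mem_ker, ← trO_ρ]
          exact hy
        have e : a • (1 : Γ((spf J).X (n + 1), (spf J).lvU h (n + 1) (trOpen (lv J) V))) =
            ρ h (lv J) (lv_comm J) (n + 1) V a := mul_one _
        rw [← e]
        exact Submodule.smul_mem_smul ha trivial
      · rw [Submodule.smul_le]
        intro a ha z _
        show trO h n (trOpen (lv J) V) (ρ h (lv J) (lv_comm J) (n + 1) V a * z) = 0
        rw [← ker_ρ J h hV n, RingHom.mem_ker] at ha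
        rw [map_mul, trO_ρ, ha, zero_mul]
    π := fun n =>
      { toFun := oP h n (trOpen (lv J) V)
        map_add' := map_add _
        map_smul' := fun a x => by
          show oP h n (trOpen (lv J) V) (ιH J h V a * x) = ρ h (lv J) (lv_comm J) n V a * _
          rw [map_mul, oP_ιH] }
    hπ := fun n => LinearMap.ext fun x => trO_oP h n (trOpen (lv J) V) x
    hinj := fun x hx => oP_ext h x 0 fun n => (hx n).trans (map_zero _).symm
    hlift := fun s hs => exists_oP h (trOpen (lv J) V) s hs }

include hV in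
theorem ker_oP_trOpen (hJ : J.FG) (n : ℕ) :
    RingHom.ker (oP h n (trOpen (lv J) V)) = JB J h V ^ (n + 1) := by
  letI : Algebra Γ(Spec (CommRingCat.of A), V) (OSec h (trOpen (lv J) V)) := (ιH J h V).toAlgebra
  letI := fun n => Module.compHom Γ((spf J).X n, (spf J).lvU h n (trOpen (lv J) V)) (ρ h (lv J) (lv_comm J) n V)
  letI := Module.compHom (OSec h (trOpen (lv J) V)) (ιH J h V)
  have e := (ringSys J h hV).ker_eq_of_fg (hJ.map _) n
  rw [JB, ← Ideal.map_map, ← Ideal.map_pow]
  ext x
  refine ⟨fun hx => ?_, fun hx => ?_⟩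
  · have hx' := (LinearMap.mem_ker.2 hx : x ∈ LinearMap.ker ((ringSys J h hV).π n))
    rw [e] at hx'
    refine Submodule.smul_induction_on (p := fun x => x ∈ ((J.map (sA V)) ^ (n + 1)).map (ιH J h V)) hx'
      (fun a ha z _ => ?_) fun p q hp hq => add_mem hp hq
    exact Ideal.mul_mem_right _ _ (Ideal.mem_map_of_mem _ ha)
  · rw [RingHom.mem_ker]
    refine RingHom.mem_ker.1 ((Ideal.map_le_iff_le_comap.2 fun a ha => ?_) hx)
    rw [Ideal.mem_comap, RingHom.mem_ker, oP_ιH, ← RingHom.mem_ker, ker_ρ J h hV]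
    exact ha

include hV in
theorem isAdicComplete_JB (hJ : J.FG) :
    IsAdicComplete (JB J h V) (OSec h (trOpen (lv J) V)) := by
  have hk := ker_oP_trOpen J h hV hJ
  refine { haus' := fun x hx => oP_ext h _ _ fun n => ?_, prec' := fun g hg => ?_ }
  · have h2 := SModEq.zero.1 (hx (n + 1))
    rw [smul_eq_mul, Ideal.mul_top, ← hk, RingHom.mem_ker] at h2
    rw [h2, map_zero]
  · have hc : ∀ n m, n ≤ m → oP h n (trOpen (lv J) V) (g (n + 1)) = oP h n (trOpen (lv J) V) (g (m + 1)) := fun n m l => by
      have h2 := SModEq.sub_mem.1 (hg (Nat.succ_le_succ l))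
      rw [smul_eq_mul, Ideal.mul_top, ← hk, RingHom.mem_ker, map_sub, sub_eq_zero] at h2
      exact h2
    obtain ⟨r, hr⟩ := exists_oP h (trOpen (lv J) V) (fun n => oP h n (trOpen (lv J) V) (g (n + 1))) fun n =>
      (trO_oP h n (trOpen (lv J) V) _).trans (hc n (n + 1) (Nat.le_succ n)).symm
    refine ⟨r, fun n => ?_⟩
    rcases n with _ | n
    · simp
    · rw [SModEq.sub_mem, smul_eq_mul, Ideal.mul_top, ← hk, RingHom.mem_ker, map_sub, hr, sub_self]

section TopFinite

variable {R : Type u} [CommRing R] {I : Ideal R} [Algebra R A]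
  (h' : (spf (I.map (algebraMap R A))).IsFormal)

theorem isAdicComplete_quot (hR : AdicRing.IsBase R I) (hA : AdicRing.TopFiniteType R I A) (f : A)
    {ι : Type u} [Fintype ι]
    (S : Submodule (OSec h' (trOpen (lv (I.map (algebraMap R A))) (PrimeSpectrum.basicOpen f)))
      (ι → OSec h' (trOpen (lv (I.map (algebraMap R A))) (PrimeSpectrum.basicOpen f)))) :
    IsAdicComplete (JB (I.map (algebraMap R A)) h' (PrimeSpectrum.basicOpen f))
      ((ι → OSec h' (trOpen (lv (I.map (algebraMap R A))) (PrimeSpectrum.basicOpen f))) ⧸ S) := by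
  classical
  set V : (Spec (CommRingCat.of A)).Opens := PrimeSpectrum.basicOpen f with hVdef
  have hV : IsAffineOpen V := isAffineOpen_basic f
  have hI := H24Val.fg_of_isBase hR
  let J := I.map (algebraMap R A)
  let π₀ : A →+* OSec h' (trOpen (lv J) V) := (ιH J h' V).comp (sA V)
  letI : Algebra R (OSec h' (trOpen (lv J) V)) := (π₀.comp (algebraMap R A)).toAlgebra
  let π : A →ₐ[R] OSec h' (trOpen (lv J) V) := { π₀ with commutes' := fun _ => rfl }
  have eJ : JB J h' V = I.map (algebraMap R (OSec h' (trOpen (lv J) V))) := Ideal.map_map _ _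
  haveI hc : IsAdicComplete (I.map (algebraMap R (OSec h' (trOpen (lv J) V)))) (OSec h' (trOpen (lv J) V)) :=
    eJ ▸ isAdicComplete_JB J h' hV (hI.map _)
  have htft : AdicRing.TopFiniteType R I (OSec h' (trOpen (lv J) V)) := by
    obtain ⟨n, φ, hφ⟩ := hA
    obtain ⟨v, hv⟩ := (isUnit_sA f).map (ιH J h' V)
    let inv : OSec h' (trOpen (lv J) V) := ↑v⁻¹
    let y : Fin (n + 1) → OSec h' (trOpen (lv J) V) :=
      Fin.snoc (fun i => π (φ (algebraMap (MvPolynomial (Fin n) R) _ (MvPolynomial.X i)))) inv
    obtain ⟨ψ, hψ, -⟩ := H24Val.exists_surjective hI (MvPolynomial.aeval y) fun b => by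
      obtain ⟨a, ha⟩ := surjective_ρ J h' hV 0 (oP h' 0 (trOpen (lv J) V) b)
      obtain ⟨k, a₀, ha₀⟩ : ∃ (k : ℕ) (a₀ : A), a * sA V f ^ k = sA V a₀ := by
        let g : Γ(Spec (CommRingCat.of A), ⊤) := (Scheme.ΓSpecIso (CommRingCat.of A)).inv f
        letI := ((Spec (CommRingCat.of A)).presheaf.map (homOfLE (le_top : V ≤ ⊤)).op).hom.toAlgebra
        haveI : IsLocalization.Away g Γ(Spec (CommRingCat.of A), V) :=
          (isAffineOpen_top _).isLocalization_of_eq_basicOpen g _ (basicOpen_eq_of_affine (R := CommRingCat.of A) f).symm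
        obtain ⟨k, a₁, ha₁⟩ := IsLocalization.Away.surj (S := Γ(Spec (CommRingCat.of A), V)) g a
        refine ⟨k, (Scheme.ΓSpecIso (CommRingCat.of A)).hom a₁, ha₁.trans ?_⟩
        exact congrArg ((Spec (CommRingCat.of A)).presheaf.map (homOfLE (le_top : V ≤ ⊤)).op)
          congr($((Scheme.ΓSpecIso (CommRingCat.of A)).hom_inv_id) a₁).symm
      obtain ⟨x, rfl⟩ := hφ a₀
      obtain ⟨p, hp⟩ := H24Adic.exists_sub_of_mem (hI.map (MvPolynomial.C : R →+* MvPolynomial (Fin n) R)) 1 x
      let M : Ideal (OSec h' (trOpen (lv J) V)) := I.map (algebraMap R (OSec h' (trOpen (lv J) V)))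
      refine ⟨MvPolynomial.rename Fin.castSucc p * MvPolynomial.X (Fin.last n) ^ k, ?_⟩
      have h1 : b - ιH J h' V a ∈ M := by
        have hk := ker_oP_trOpen J h' hV (hI.map _) 0
        rw [zero_add, pow_one, eJ] at hk
        rw [show M = RingHom.ker (oP h' 0 (trOpen (lv J) V)) from hk.symm, RingHom.mem_ker, map_sub, oP_ιH, ha,
          sub_self]
      have h2 : π (φ x) - π (φ (algebraMap _ _ p)) ∈ M := by
        rw [pow_one] at hp
        have h := Ideal.mem_map_of_mem ((π.comp φ).toRingHom) hp
        rw [Ideal.map_map, Ideal.map_map] at h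
        rw [← map_sub, ← map_sub]
        refine (le_of_eq (congrArg (fun g : R →+* OSec h' (trOpen (lv J) V) => I.map g) ?_)) h
        exact RingHom.ext fun r => (π.comp φ).commutes r
      have h3 : MvPolynomial.aeval y (MvPolynomial.rename Fin.castSucc p) = π (φ (algebraMap _ _ p)) := by
        rw [MvPolynomial.aeval_rename]
        change MvPolynomial.aeval (y ∘ Fin.castSucc) p =
          (π.comp (φ.comp (IsScalarTower.toAlgHom R (MvPolynomial (Fin n) R) (AdicRing.RPow R I n)))) p
        congr 1
        refine MvPolynomial.algHom_ext fun i => ?_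
        rw [MvPolynomial.aeval_X]
        simp only [y, Function.comp_apply, Fin.snoc_castSucc]
        rfl
      have h4 : ιH J h' V a = π (φ x) * inv ^ k := by
        have e : ιH J h' V (a * sA V f ^ k) = π (φ x) := congrArg (ιH J h' V) ha₀
        rw [map_mul, map_pow, ← hv] at e
        rw [← e, mul_assoc, ← mul_pow, Units.mul_inv, one_pow, mul_one]
      rw [map_mul, h3, map_pow, MvPolynomial.aeval_X, show y (Fin.last n) = inv from Fin.snoc_last _ _]
      rw [h4] at h1
      have h5 := add_mem h1 (M.mul_mem_right (inv ^ k) h2)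
      rwa [sub_mul, sub_add_sub_cancel] at h5
    exact ⟨n + 1, ψ, hψ⟩
  rw [eJ]
  exact (IsAdicComplete.map_algebraMap_iff _ _).2
    (H24Val.isAdicComplete_topFinite (A := OSec h' (trOpen (lv J) V)) hR htft)

end TopFinite

end Groth.Agent.H24FSpf
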