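import Groth.Agent.H24FMod.ComplSec
import Mathlib.RingTheory.AdicCompletion.Completeness

/-!
# Sections of completed quasi-coherent modules, without Noetherian hypotheses
-/

set_option autoImplicit false
set_option linter.style.haveILetI false
set_option linter.unusedSectionVars false
universe u

open CategoryTheory CategoryTheory.Limits AlgebraicGeometry TopologicalSpace Opposite

namespace Groth.Agent.H24FSpf

open H15Site.ModTensor H15Site.ModRel H15Site.LocGen H15Site.LocPres H24FMod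

variable {X : Scheme.{u}} {𝔛 : FSch.Sys.{u}} (h : 𝔛.IsFormal) (c : ∀ n, 𝔛.X n ⟶ X)
  (hc : ∀ n, 𝔛.ι n ≫ c (n + 1) = c n)
  (T : ∀ n, Scheme.Modules.pullback (c (n + 1)) ⋙ Scheme.Modules.pullback (𝔛.ι n) ≅ Scheme.Modules.pullback (c n))
  (hT : ∀ n, T n = Scheme.Modules.pullbackComp (𝔛.ι n) (c (n + 1)) ≪≫ Scheme.Modules.pullbackCongr (hc n))
  (F G : X.Modules)

/-- The image of a function on the scheme on a level. -/
noncomputable def ρ (n : ℕ) (V : X.Opens) : Γ(X, V) →+* Γ(𝔛.X n, 𝔛.lvU h n (trOpen c V)) :=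
  ((c n).appLE V (𝔛.lvU h n (trOpen c V)) (lvU_trOpen h c hc n V).le).hom

theorem trO_ρ (n : ℕ) (V : X.Opens) (a : Γ(X, V)) :
    trO h n (trOpen c V) (ρ h c hc (n + 1) V a) = ρ h c hc n V a := by
  have e := Scheme.Hom.appLE_comp_appLE (𝔛.ι n) (c (n + 1)) V (𝔛.lvU h (n + 1) (trOpen c V))
    (𝔛.lvU h n (trOpen c V)) (lvU_trOpen h c hc (n + 1) V).le (𝔛.lvU_le h n (trOpen c V))
  simp only [hc n] at e
  exact congr($e a)

theorem exists_ιO (V : X.Opens) (a : Γ(X, V)) :
    ∃ r : OSec h (trOpen c V), ∀ n, oP h n (trOpen c V) r = ρ h c hc n V a :=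
  exists_oP h _ _ fun n => trO_ρ h c hc n V a

theorem κ_smul (n : ℕ) (V : X.Opens) (a : Γ(X, V)) (m : Γ(F, V)) :
    κ h c hc T F V n (a • m) = ρ h c hc n V a • κ h c hc T F V n m := by
  show ((pbSys c T F).F n).presheaf.map _ (OmegaSh.pullSect (c n) F V (a • m)) = _
  rw [OmegaSh.pullSect_smul]
  exact Scheme.Modules.map_smul ((pbSys c T F).F n) (homOfLE (lvU_trOpen h c hc n V).le) _ _

theorem κ_res (n : ℕ) {V W : X.Opens} (l : W ≤ V) (m : Γ(F, V)) :
    ((pbSys c T F).F n).presheaf.map (homOfLE (lvU_mono h n (fun _ hx => l hx : trOpen c W ≤ trOpen c V))).op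
        (κ h c hc T F V n m) = κ h c hc T F W n (F.presheaf.map (homOfLE l).op m) := by
  let M := (pbSys c T F).F n
  have e : OmegaSh.pullSect (c n) F W (F.presheaf.map (homOfLE l).op m) =
      M.presheaf.map (homOfLE (fun _ hx => l hx : c n ⁻¹ᵁ W ≤ c n ⁻¹ᵁ V)).op (OmegaSh.pullSect (c n) F V m) :=
    congr($(((Scheme.Modules.pullbackPushforwardAdjunction (c n)).unit.app F).mapPresheaf.naturality (homOfLE l).op) m)
  show M.presheaf.map _ (M.presheaf.map _ (OmegaSh.pullSect (c n) F V m)) = M.presheaf.map _ _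
  rw [e]
  exact (map_map_eq M _ _ _).trans (map_map_eq M _ _ _).symm

variable {F G} {V : X.Opens}

include hT in
theorem exists_cst (m : Γ(F, V)) : ∃ y : Sec h ((pbSys c T F).realMod h) (trOpen c V),
    ∀ n, prS h (pbSys c T F).F (pbSys c T F).toPush n (trOpen c V) y = κ h c hc T F V n m :=
  exists_prS h _ _ _ _ fun n => tr_κ h c hc T hT F V n m

/-- The section given by a constant sequence. -/
noncomputable def cst (m : Γ(F, V)) : Sec h ((pbSys c T F).realMod h) (trOpen c V) :=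
  (exists_cst h c hc T hT m).choose

theorem prS_cst (m : Γ(F, V)) (n : ℕ) :
    prS h (pbSys c T F).F (pbSys c T F).toPush n (trOpen c V) (cst h c hc T hT m) = κ h c hc T F V n m :=
  (exists_cst h c hc T hT m).choose_spec n

theorem cst_res {W : X.Opens} (l : W ≤ V) (m : Γ(F, V)) :
    rs ((forg (𝔛.Osh h)).obj ((pbSys c T F).realMod h)) (homOfLE (fun _ hx => l hx : trOpen c W ≤ trOpen c V)).op
        (cst h c hc T hT m) = cst h c hc T hT (F.presheaf.map (homOfLE l).op m) :=
  prS_ext h _ _ _ _ fun n => (prS_res h _ _ n _ _).trans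
    ((congrArg _ (prS_cst h c hc T hT m n)).trans ((κ_res h c hc T F n l m).trans (prS_cst h c hc T hT _ n).symm))

variable [∀ n, IsClosedImmersion (c n)] (K : Ideal Γ(X, V))
  (hK : ∀ n, RingHom.ker ((c n).app V).hom = K ^ (n + 1)) (hV : IsAffineOpen V) (hF : F.IsQuasicoherent)

include hK in
theorem ρ_eq_zero (n : ℕ) {a : Γ(X, V)} (ha : a ∈ K ^ (n + 1)) : ρ h c hc n V a = 0 := by
  rw [← hK, RingHom.mem_ker] at ha
  exact (congrArg ((𝔛.X n).presheaf.map (homOfLE (lvU_trOpen h c hc n V).le).op).hom ha).trans (map_zero ((𝔛.X n).presheaf.map (homOfLE (lvU_trOpen h c hc n V).le).op).hom)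

include hK hV hF in
theorem κ_isQuot (n : ℕ) : Function.Surjective (κ h c hc T F V n) ∧
    ∀ m, κ h c hc T F V n m = 0 ↔ m ∈ K ^ (n + 1) • (⊤ : Submodule Γ(X, V) Γ(F, V)) := by
  haveI : IsClosedImmersion (c n ∣_ V) :=
    IsZariskiLocalAtTarget.restrict (P := @IsClosedImmersion) inferInstance _
  obtain ⟨hs, hk⟩ := H17.PullSect.isQuotOn_of_isAffineOpen (c n) F hF hV
  have hb := bijective_res_of_le_le ((pbSys c T F).F n) (lvU_trOpen h c hc n V).le (lvU_trOpen h c hc n V).ge
  refine ⟨fun y => ?_, fun m => ⟨fun hm => ?_, fun hm => ?_⟩⟩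
  · obtain ⟨z, rfl⟩ := hb.2 y
    obtain ⟨m, rfl⟩ := hs z
    exact ⟨m, rfl⟩
  · exact hK n ▸ hk m (hb.1 (hm.trans (map_zero _).symm))
  · refine Submodule.smul_induction_on (p := fun m => κ h c hc T F V n m = 0) hm (fun r hr x _ => ?_)
      fun a b ha hb' => by rw [map_add, ha, hb', add_zero]
    rw [κ_smul, ρ_eq_zero h c hc K hK n hr, zero_smul]

/-- A Cauchy sequence represents a section. -/
def Rep (b : AdicCompletion.AdicCauchySequence K Γ(F, V)) (y : Sec h ((pbSys c T F).realMod h) (trOpen c V)) :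
    Prop :=
  ∀ n, κ h c hc T F V n (b (n + 1)) = prS h (pbSys c T F).F (pbSys c T F).toPush n (trOpen c V) y

include hT hK hV hF in
theorem exists_rep (y : Sec h ((pbSys c T F).realMod h) (trOpen c V)) : ∃ b, Rep h c hc T K b y := by
  choose m hm using fun n => (κ_isQuot h c hc T K hK hV hF n).1
    (prS h (pbSys c T F).F (pbSys c T F).toPush n (trOpen c V) y)
  refine ⟨AdicCompletion.AdicCauchySequence.mk _ _ (fun n => m (n - 1)) fun n => ?_, fun n => hm n⟩
  rcases n with _ | n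
  · simp
  · rw [SModEq.sub_mem, ← (κ_isQuot h c hc T K hK hV hF n).2, map_sub, sub_eq_zero]
    exact (hm n).trans ((tr_prS h _ _ n _ y).symm.trans ((congrArg _ (hm (n + 1)).symm).trans (tr_κ h c hc T hT F V n _)))

include hT hK hV hF in
theorem exists_section (b : AdicCompletion.AdicCauchySequence K Γ(F, V)) : ∃ y, Rep h c hc T K b y := by
  obtain ⟨y, hy⟩ := exists_prS h (pbSys c T F).F (pbSys c T F).toPush _ (fun n => κ h c hc T F V n (b (n + 1)))
    fun n => (tr_κ h c hc T hT F V n _).trans (by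
      rw [← sub_eq_zero, ← map_sub, (κ_isQuot h c hc T K hK hV hF n).2, ← SModEq.sub_mem]
      exact (b.property (Nat.le_succ (n + 1))).symm)
  exact ⟨y, fun n => (hy n).symm⟩

include hK hV hF in
theorem Rep.unique {b b' : AdicCompletion.AdicCauchySequence K Γ(F, V)}
    (e : AdicCompletion.mk K _ b = AdicCompletion.mk K _ b')
    {y y' : Sec h ((pbSys c T F).realMod h) (trOpen c V)} (hy : Rep h c hc T K b y) (hy' : Rep h c hc T K b' y') :
    y = y' := by
  refine prS_ext h _ _ _ _ fun n => ((hy n).symm.trans ?_).trans (hy' n)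
  refine sub_eq_zero.1 ((map_sub _ _ _).symm.trans (((κ_isQuot h c hc T K hK hV hF n).2 _).2 ?_))
  exact (Submodule.Quotient.eq _).1 (congrArg (fun t : AdicCompletion K Γ(F, V) => t.val (n + 1)) e)

variable {G' : ∀ k, (𝔛.X k).Modules} {t : ∀ k, G' (k + 1) ⟶ (Scheme.Modules.pushforward (𝔛.ι k)).obj (G' k)}
  (ψ : (pbSys c T F).realMod h ⟶ FSch.realLim 𝔛 h G' t)

include hc hT hK hV hF in
/-- A morphism out of a completed module respects the levels. -/
theorem prS_hom_eq_zero (hKfg : K.FG) (n : ℕ) {y : Sec h ((pbSys c T F).realMod h) (trOpen c V)}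
    (hy : prS h (pbSys c T F).F (pbSys c T F).toPush n (trOpen c V) y = 0) :
    prS h G' t n (trOpen c V) (secMap ψ (trOpen c V) y) = 0 := by
  obtain ⟨b, hb⟩ := exists_rep h c hc T hT K hK hV hF y
  have hz : AdicCompletion.mk K _ b ∈ (K ^ (n + 1) • ⊤ : Submodule Γ(X, V) (AdicCompletion K Γ(F, V))) := by
    rw [AdicCompletion.pow_smul_top_eq_ker_eval hKfg]
    exact (Submodule.Quotient.mk_eq_zero _).2 (((κ_isQuot h c hc T K hK hV hF n).2 _).1 ((hb n).trans hy))
  suffices H : ∀ z ∈ (K ^ (n + 1) • ⊤ : Submodule Γ(X, V) (AdicCompletion K Γ(F, V))),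
      ∀ b' y', AdicCompletion.mk K _ b' = z → Rep h c hc T K b' y' →
        prS h G' t n (trOpen c V) (secMap ψ (trOpen c V) y') = 0 from H _ hz b y rfl hb
  intro z hz
  refine Submodule.smul_induction_on (p := fun z => ∀ b' y', AdicCompletion.mk K _ b' = z → Rep h c hc T K b' y' →
        prS h G' t n (trOpen c V) (secMap ψ (trOpen c V) y') = 0) hz (fun a ha w _ => ?_) fun p q hp hq => ?_
  · intro b' y' hb' hy'
    obtain ⟨cs, rfl⟩ := AdicCompletion.mk_surjective K _ w
    obtain ⟨x, hx⟩ := exists_section h c hc T hT K hK hV hF cs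
    obtain ⟨r, hr⟩ := exists_ιO h c hc V a
    have hrx : Rep h c hc T K (a • cs) (r • x) := fun k => by
      show κ h c hc T F V k (a • cs (k + 1)) = _
      exact (κ_smul h c hc T F k V a _).trans ((congrArg₂ (· • ·) (hr k).symm (hx k)).trans (prS_smul h _ _ k _ r x).symm)
    rw [Rep.unique h c hc T K hK hV hF (hb'.trans (map_smul _ _ _).symm) hy' hrx]
    refine (congrArg _ ((ψ.val.app (op (trOpen c V))).hom.map_smul r x)).trans ?_
    refine (prS_smul h G' t n _ r _).trans ?_
    rw [hr, ρ_eq_zero h c hc K hK n ha, zero_smul]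
  · intro b' y' hb' hy'
    obtain ⟨cp, rfl⟩ := AdicCompletion.mk_surjective K _ p
    obtain ⟨cq, rfl⟩ := AdicCompletion.mk_surjective K _ q
    obtain ⟨xp, hxp⟩ := exists_section h c hc T hT K hK hV hF cp
    obtain ⟨xq, hxq⟩ := exists_section h c hc T hT K hK hV hF cq
    have hpq : Rep h c hc T K (cp + cq) (xp + xq) := fun k => by
      show κ h c hc T F V k (cp (k + 1) + cq (k + 1)) = _
      exact (map_add _ _ _).trans ((congrArg₂ (· + ·) (hxp k) (hxq k)).trans (map_add _ _ _).symm)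
    rw [Rep.unique h c hc T K hK hV hF (hb'.trans (map_add _ _ _).symm) hy' hpq, map_add, map_add,
      hp cp xp rfl hxp, hq cq xq rfl hxq, add_zero]

include hK hV hF in
/-- A morphism out of a completed module is determined on constant sections. -/
theorem prS_hom_ext (hKfg : K.FG) (ψ' : (pbSys c T F).realMod h ⟶ FSch.realLim 𝔛 h G' t) (n : ℕ)
    (H : ∀ m : Γ(F, V), prS h G' t n (trOpen c V) (secMap ψ (trOpen c V) (cst h c hc T hT m)) =
      prS h G' t n (trOpen c V) (secMap ψ' (trOpen c V) (cst h c hc T hT m)))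
    (y : Sec h ((pbSys c T F).realMod h) (trOpen c V)) :
    prS h G' t n (trOpen c V) (secMap ψ (trOpen c V) y) = prS h G' t n (trOpen c V) (secMap ψ' (trOpen c V) y) := by
  obtain ⟨b, hb⟩ := exists_rep h c hc T hT K hK hV hF y
  let m : Γ(F, V) := b (n + 1)
  have h0 : prS h (pbSys c T F).F (pbSys c T F).toPush n (trOpen c V) (y - cst h c hc T hT m) = 0 :=
    (map_sub _ _ _).trans (sub_eq_zero.2 ((hb n).symm.trans (prS_cst h c hc T hT m n).symm))
  have e1 := prS_hom_eq_zero h c hc T hT K hK hV hF ψ hKfg n h0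
  have e2 := prS_hom_eq_zero h c hc T hT K hK hV hF ψ' hKfg n h0
  rw [map_sub, map_sub, sub_eq_zero] at e1 e2
  rw [e1, e2, H]

end Groth.Agent.H24FSpf
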