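import Groth.Agent.H24FSpf.CohLevels

/-!
# A finitely presented module on the formal spectrum is the limit of its levels
-/

set_option autoImplicit false
set_option linter.style.haveILetI false
set_option linter.unusedSectionVars false
universe u

open CategoryTheory CategoryTheory.Limits AlgebraicGeometry TopologicalSpace Opposite

attribute [-instance] CategoryTheory.catToReflQuiver

namespace Groth.Agent.H24FSpf

open H15Site.ModTensor H15Site.ModRel H15Site.LocGen H15Site.LocPres H24FMod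

variable {R : Type u} [CommRing R] {I : Ideal R} {A : Type u} [CommRing A] [Algebra R A]

theorem exists_cover_pres {J : Ideal A} (h : (spf J).IsFormal) {𝔉 : FSch.ModF (spf J) h}
    (h𝔉 : FSch.IsCohF (spf J) h 𝔉) (V : ((spf J).X 0).Opens) :
    ∃ S ∈ Opens.grothendieckTopology ((spf J).X 0) V, ∀ ⦃W : ((spf J).X 0).Opens⦄ (g : W ⟶ V), S g →
      ∃ f : A, W ≤ trOpen (lv J) (PrimeSpectrum.basicOpen f) ∧ trOpen (lv J) (PrimeSpectrum.basicOpen f) ≤ V ∧
        FP 𝔉 (trOpen (lv J) (PrimeSpectrum.basicOpen f)) := by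
  haveI : SheafOfModules.IsFinitePresentation (R := ModSite.ringSh ((spf J).Osh h)) 𝔉 := h𝔉
  obtain ⟨S, hS, hS'⟩ := lh_fp 𝔉 V
  let T : Sieve V :=
    { arrows := fun W _ => ∃ f : A, W ≤ trOpen (lv J) (PrimeSpectrum.basicOpen f) ∧
        trOpen (lv J) (PrimeSpectrum.basicOpen f) ≤ V ∧ FP 𝔉 (trOpen (lv J) (PrimeSpectrum.basicOpen f))
      downward_closed := fun {W W'} _ hh g => by
        obtain ⟨f, h1, h2, h3⟩ := hh
        exact ⟨f, (leOfHom g).trans h1, h2, h3⟩ }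
  refine ⟨T, fun y hy => ?_, fun W g hg => hg⟩
  obtain ⟨B, g, hg, hyB⟩ := hS y hy
  obtain ⟨U, hU, hU'⟩ := exists_basic J B
  obtain ⟨W, q, hq, hyW⟩ := hU y hyB
  obtain ⟨f, h1, h2⟩ := hU' q hq
  exact ⟨_, homOfLE (le_trans h2 (leOfHom g)),
    ⟨f, le_rfl, le_trans h2 (leOfHom g), FP.res (homOfLE h2) (hS' g hg)⟩, h1 hyW⟩

variable (h' : (spf (I.map (algebraMap R A))).IsFormal) (hR : AdicRing.IsBase R I) (hA : AdicRing.TopFiniteType R I A)
  {𝔉 : FSch.ModF (spf (I.map (algebraMap R A))) h'} (h𝔉 : FSch.IsCohF (spf (I.map (algebraMap R A))) h' 𝔉)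

include hR hA h𝔉 in
theorem mono_toReal : Mono (toReal h' 𝔉) := by
  refine (Preadditive.mono_iff_cancel_zero _).2 fun P φ hφ => hom_ext_sec fun U y => ?_
  let z : Sec h' 𝔉 U := secMap φ U y
  have hz : secMap (toReal h' 𝔉) U z = 0 :=
    congrArg (fun (q : P ⟶ (pullSys h' 𝔉).realMod h') => (q.val.app (op U)).hom y) hφ
  show z = 0
  obtain ⟨T, hT, hT'⟩ := exists_cover_pres h' h𝔉 U
  refine separated_forg 𝔉 (X := op U) T hT _ _ fun W g hg => ?_
  obtain ⟨fA, h1, h2, ι, κ, hI, hK, x, r, hx, hr⟩ := hT' g hg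
  obtain ⟨E, hE, hE'⟩ := hx (homOfLE le_rfl) (rs ((forg ((spf (I.map (algebraMap R A))).Osh h')).obj 𝔉) (homOfLE h2).op z)
  refine (?_ : _ = (0 : Sec h' 𝔉 W)).trans (rs_zero _ _).symm
  refine separated_forg 𝔉 (X := op W) (E.pullback (homOfLE h1)) ((Opens.grothendieckTopology _).pullback_stable _ hE)
    _ _ fun Z k hk => ?_
  refine Eq.trans ?_ (rs_zero _ _).symm
  obtain ⟨c, hc⟩ := hE' (k ≫ homOfLE h1) hk
  have e1 : rs ((forg ((spf (I.map (algebraMap R A))).Osh h')).obj 𝔉) k.op (rs ((forg ((spf (I.map (algebraMap R A))).Osh h')).obj 𝔉) g.op z) =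
      ∑ i, c i • rs ((forg ((spf (I.map (algebraMap R A))).Osh h')).obj 𝔉) ((k ≫ homOfLE h1) ≫ homOfLE le_rfl).op (x i) := by
    refine Eq.trans ?_ hc
    rw [rs_rs, rs_rs]
    exact congrArg (fun q => rs _ q z) (Subsingleton.elim _ _)
  refine e1.trans ?_
  obtain ⟨SZ, hSZ, hSZ'⟩ := exists_basic (I.map (algebraMap R A)) Z
  refine separated_forg 𝔉 (X := op Z) SZ hSZ _ _ fun Z' q hq => ?_
  obtain ⟨fB, hq1, hq2⟩ := hSZ' q hq
  let B := trOpen (lv (I.map (algebraMap R A))) (PrimeSpectrum.basicOpen fB : (Spec (CommRingCat.of A)).Opens)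
  let l : B ⟶ trOpen (lv (I.map (algebraMap R A))) (PrimeSpectrum.basicOpen fA : (Spec (CommRingCat.of A)).Opens) :=
    homOfLE (hq2.trans ((leOfHom k).trans h1))
  have hP := pres_toReal h' hR hA h𝔉 fB (hx.restrict l) (hr.restrict l)
  let cB : ι → OSec h' B := fun i => rr ((spf (I.map (algebraMap R A))).Osh h') (homOfLE hq2).op (c i)
  have hsum : ∑ i, cB i • secMap (toReal h' 𝔉) B (rs ((forg ((spf (I.map (algebraMap R A))).Osh h')).obj 𝔉) l.op (x i)) = 0 := by
    refine (app_sum_smul (toReal h' 𝔉) _ _ _).symm.trans ?_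
    have e2 : ∑ i, cB i • rs ((forg ((spf (I.map (algebraMap R A))).Osh h')).obj 𝔉) l.op (x i) =
        rs ((forg ((spf (I.map (algebraMap R A))).Osh h')).obj 𝔉) ((homOfLE hq2) ≫ k ≫ g).op z := by
      rw [op_comp, op_comp, ← rs_rs, ← rs_rs, e1, rs_sum]
      refine Finset.sum_congr rfl fun i _ => ?_
      rw [rs_smul', rs_rs]
      exact congrArg (fun q => cB i • rs _ q (x i)) (Subsingleton.elim _ _)
    refine (congrArg _ e2).trans ?_
    refine (rs_app (toReal h' 𝔉).val _ z).trans ?_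
    exact (congrArg _ hz).trans (rs_zero _ _)
  obtain ⟨d, hd⟩ := hP.2 cB hsum
  rw [rs_zero, show q.op = (homOfLE hq2).op ≫ (homOfLE hq1).op from Subsingleton.elim _ _, ← rs_rs]
  refine (congrArg _ ?_).trans (rs_zero _ _)
  rw [rs_sum]
  refine Eq.trans (Finset.sum_congr rfl fun i _ => ?_)
    (Eq.trans (b := ∑ i, (∑ j, d j * rr ((spf (I.map (algebraMap R A))).Osh h') l.op (r j i)) • rs ((forg ((spf (I.map (algebraMap R A))).Osh h')).obj 𝔉) l.op (x i)) rfl ?_)
  · rw [rs_smul', rs_rs, ← hd i]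
    exact congrArg (fun q => cB i • rs _ q (x i)) (Subsingleton.elim _ _)
  · simp only [Finset.sum_smul, mul_smul]
    rw [Finset.sum_comm]
    refine Finset.sum_eq_zero fun j _ => ?_
    rw [← Finset.smul_sum]
    have := (hr.restrict l).zero j
    rw [this, smul_zero]

include hR hA h𝔉 in
theorem epi_toReal : Epi (toReal h' 𝔉) := by
  rw [epi_iff_locSurj]
  intro V t
  obtain ⟨S, hS, hS'⟩ := exists_cover_pres h' h𝔉 V
  refine ⟨S, hS, fun W g hg => ?_⟩
  obtain ⟨fA, h1, h2, ι, κ, hI, hK, x, r, hx, hr⟩ := hS' g hg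
  obtain ⟨c, hc⟩ := (pres_toReal h' hR hA h𝔉 fA hx hr).1
    (rs ((forg ((spf (I.map (algebraMap R A))).Osh h')).obj ((pullSys h' 𝔉).realMod h')) (homOfLE h2).op t)
  refine ⟨rs ((forg ((spf (I.map (algebraMap R A))).Osh h')).obj 𝔉) (homOfLE h1).op (∑ i, c i • x i), ?_⟩
  rw [show g.op = (homOfLE h2).op ≫ (homOfLE h1).op from Subsingleton.elim _ _, ← rs_rs, hc]
  exact (rs_app (toReal h' 𝔉).val _ _).trans (congrArg _ (app_sum_smul (toReal h' 𝔉) _ _ _))

include hR hA h𝔉 in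
/-- A finitely presented module is the module of its levels. -/
theorem isIso_toReal : IsIso (toReal h' 𝔉) := by
  haveI := mono_toReal h' hR hA h𝔉
  haveI := epi_toReal h' hR hA h𝔉
  exact isIso_of_mono_of_epi _

end Groth.Agent.H24FSpf
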